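import Mathlib
import Groth.Prelude.Def_Cyc

set_option linter.style.haveILetI false
set_option linter.unusedVariables false
set_option linter.unusedSectionVars false
set_option autoImplicit false
set_option backward.isDefEq.respectTransparency.types false
set_option synthInstance.maxHeartbeats 400000
set_option maxHeartbeats 1600000

namespace Groth.Agent.Helper7.P1Rat

open CategoryTheory CategoryTheory.Limits AlgebraicGeometry TopologicalSpace Opposite IsLocalRing

universe u

/-! helper7: stalks of the base change of a closed immersion: the kernel of the stalk map of the projection is generated by the image of a generator (tested with the spectrum of the quotient local ring) -/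

section Germs

theorem germ_comp_app {A B C : Scheme.{u}} (f : A ⟶ B) (g : B ⟶ C) (U : C.Opens) (z : A)
    (hz : g (f z) ∈ U) (s : Γ(C, U)) :
    (f.stalkMap z).hom ((g.stalkMap (f z)).hom (C.presheaf.germ U (g (f z)) hz s)) =
      A.presheaf.germ ((f ≫ g) ⁻¹ᵁ U) z hz ((f ≫ g).app U s) := by
  rw [Scheme.Hom.germ_stalkMap_apply, Scheme.Hom.germ_stalkMap_apply]
  rfl

theorem germ_app_congr {A C : Scheme.{u}} {m m' : A ⟶ C} (e : m = m') (U : C.Opens) (z : A)
    (hz : m z ∈ U) (s : Γ(C, U)) :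
    A.presheaf.germ (m ⁻¹ᵁ U) z hz (m.app U s) =
      A.presheaf.germ (m' ⁻¹ᵁ U) z (e ▸ hz) (m'.app U s) := by
  subst e
  rfl

theorem germ_eq_zero_congr {A : Scheme.{u}} (V : A.Opens) (σ : Γ(A, V)) (z z' : A) (e : z' = z)
    (hz : z ∈ V) (h0 : A.presheaf.germ V z hz σ = 0) :
    A.presheaf.germ V z' (e ▸ hz) σ = 0 := by
  subst e
  exact h0

theorem stalkClosedPointTo_germ_congr {X : Scheme.{u}} {R : CommRingCat.{u}} [IsLocalRing R]
    {f f' : Spec R ⟶ X} (e : f = f') (U : X.Opens) (hU : f (closedPoint R) ∈ U) (s : Γ(X, U)) :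
    (Scheme.stalkClosedPointTo f).hom (X.presheaf.germ U (f (closedPoint R)) hU s) =
      (Scheme.stalkClosedPointTo f').hom
        (X.presheaf.germ U (f' (closedPoint R)) (e ▸ hU) s) := by
  subst e
  rfl

theorem stalkClosedPointTo_germ_apply {X : Scheme.{u}} {R : CommRingCat.{u}} [IsLocalRing R]
    {x : X} (f : X.presheaf.stalk x ⟶ R) [IsLocalHom f.hom] (U : X.Opens)
    (hU : (Spec.map f ≫ X.fromSpecStalk x) (closedPoint R) ∈ U) (hx : x ∈ U) (t : Γ(X, U)) :
    (Scheme.stalkClosedPointTo (Spec.map f ≫ X.fromSpecStalk x)).hom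
        (X.presheaf.germ U _ hU t) = f.hom (X.presheaf.germ U x hx t) :=
  DFunLike.congr_fun (congrArg CommRingCat.Hom.hom
    (Scheme.germ_stalkClosedPointTo_Spec_fromSpecStalk f U hU)) t

theorem stalkClosedPointTo_comp_germ_apply {X Y : Scheme.{u}} {R : CommRingCat.{u}}
    [IsLocalRing R] (f : Spec R ⟶ X) (g : X ⟶ Y) (U : Y.Opens)
    (hU : (f ≫ g) (closedPoint R) ∈ U) (t : Γ(Y, U)) :
    (Scheme.stalkClosedPointTo (f ≫ g)).hom (Y.presheaf.germ U _ hU t) =
      (Scheme.stalkClosedPointTo f).hom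
        (X.presheaf.germ (g ⁻¹ᵁ U) (f (closedPoint R)) hU (g.app U t)) := by
  have h := Scheme.stalkClosedPointTo_comp f g
  have h2 := DFunLike.congr_fun (congrArg CommRingCat.Hom.hom h)
    (Y.presheaf.germ U ((f ≫ g) (closedPoint R)) hU t)
  refine h2.trans ?_
  show (Scheme.stalkClosedPointTo f).hom ((g.stalkMap (f (closedPoint R))).hom
    (Y.presheaf.germ U (g (f (closedPoint R))) hU t)) = _
  rw [Scheme.Hom.germ_stalkMap_apply]

end Germs

section BC

variable {W D P Q : Scheme.{u}} (ι : W ⟶ P) (j : D ⟶ P) [IsClosedImmersion j]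
  (fst : Q ⟶ W) (snd : Q ⟶ D) (sq : IsPullback fst snd ι j)

include sq in
theorem isClosedImmersion_fst : IsClosedImmersion fst :=
  MorphismProperty.of_isPullback (P := @IsClosedImmersion) sq.flip inferInstance

include sq in
theorem pt_comm (z : Q) : ι (fst z) = j (snd z) := by
  show (fst ≫ ι) z = (snd ≫ j) z
  rw [sq.w]

include sq in
/-- the kernel of the stalk map of the base change of a closed immersion is contained in any
ideal receiving the kernel of the closed immersion (test with the spectrum of the quotient) -/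
theorem ker_le_of_test (z : Q) (a₀ : W.presheaf.stalk (fst z))
    (θ : P.presheaf.stalk (j (snd z)) →+* W.presheaf.stalk (fst z)) [IsLocalHom θ]
    (hθ : ∀ (U : P.Opens) (hU : j (snd z) ∈ U) (hUw : ι (fst z) ∈ U) (s : Γ(P, U)),
      θ (P.presheaf.germ U (j (snd z)) hU s) = W.presheaf.germ (ι ⁻¹ᵁ U) (fst z) hUw (ι.app U s))
    (hker : ∀ b, (j.stalkMap (snd z)).hom b = 0 → θ b ∈ Ideal.span {a₀}) :
    RingHom.ker (fst.stalkMap z).hom ≤ Ideal.span {a₀} := by
  haveI hcl : IsClosedImmersion fst := isClosedImmersion_fst ι j fst snd sq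
  intro a ha
  rw [RingHom.mem_ker] at ha
  by_cases hI : Ideal.span {a₀} = ⊤
  · rw [hI]
    trivial
  haveI : Nontrivial (W.presheaf.stalk (fst z) ⧸ Ideal.span {a₀}) :=
    Ideal.Quotient.nontrivial_iff.mpr hI
  haveI : IsLocalRing (W.presheaf.stalk (fst z) ⧸ Ideal.span {a₀}) :=
    IsLocalRing.of_surjective' (Ideal.Quotient.mk _) Ideal.Quotient.mk_surjective
  let R : CommRingCat.{u} := CommRingCat.of (W.presheaf.stalk (fst z) ⧸ Ideal.span {a₀})
  haveI : IsLocalRing R := inferInstanceAs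
    (IsLocalRing (W.presheaf.stalk (fst z) ⧸ Ideal.span {a₀}))
  let qm : W.presheaf.stalk (fst z) ⟶ R :=
    CommRingCat.ofHom (Ideal.Quotient.mk (Ideal.span {a₀}))
  haveI hqml : IsLocalHom qm.hom :=
    IsLocalHom.of_surjective (Ideal.Quotient.mk (Ideal.span {a₀})) Ideal.Quotient.mk_surjective
  have hjs : Function.Surjective (j.stalkMap (snd z)).hom := j.stalkMap_surjective (snd z)
  have hkle : RingHom.ker (j.stalkMap (snd z)).hom ≤ RingHom.ker (qm.hom.comp θ) := by
    intro b hb
    rw [RingHom.mem_ker] at hb ⊢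
    rw [RingHom.comp_apply]
    exact Ideal.Quotient.eq_zero_iff_mem.mpr (hker b hb)
  let ψ : D.presheaf.stalk (snd z) →+* R :=
    RingHom.liftOfSurjective (j.stalkMap (snd z)).hom hjs ⟨qm.hom.comp θ, hkle⟩
  have hψ : ∀ b, ψ ((j.stalkMap (snd z)).hom b) = qm.hom (θ b) := fun b =>
    RingHom.liftOfSurjective_comp_apply (j.stalkMap (snd z)).hom hjs ⟨qm.hom.comp θ, hkle⟩ b
  let ψc : D.presheaf.stalk (snd z) ⟶ R := CommRingCat.ofHom ψ
  haveI hψl : IsLocalHom ψc.hom := by
    constructor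
    intro b hb
    obtain ⟨c, rfl⟩ := hjs b
    have h1 : IsUnit (qm.hom (θ c)) := by
      rw [← hψ c]
      exact hb
    have h2 : IsUnit (θ c) := hqml.map_nonunit _ h1
    have h3 : IsUnit c := IsLocalHom.map_nonunit (f := θ) _ h2
    exact h3.map _
  let g : Spec R ⟶ W := Spec.map qm ≫ W.fromSpecStalk (fst z)
  let gD : Spec R ⟶ D := Spec.map ψc ≫ D.fromSpecStalk (snd z)
  have hgcp : g (closedPoint R) = fst z := by
    show (Spec.map qm ≫ W.fromSpecStalk (fst z)) (closedPoint R) = fst z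
    rw [Scheme.Hom.comp_apply, Spec_closedPoint, Scheme.fromSpecStalk_closedPoint]
  have hgDcp : gD (closedPoint R) = snd z := by
    show (Spec.map ψc ≫ D.fromSpecStalk (snd z)) (closedPoint R) = snd z
    rw [Scheme.Hom.comp_apply, Spec_closedPoint, Scheme.fromSpecStalk_closedPoint]
  have e := pt_comm ι j fst snd sq z
  have hcomm : g ≫ ι = gD ≫ j := by
    apply (SpecToEquivOfLocalRing P R).injective
    rw [SpecToEquivOfLocalRing_eq_iff]
    have h₁ : (g ≫ ι) (closedPoint R) = (gD ≫ j) (closedPoint R) := by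
      show ι (g (closedPoint R)) = j (gD (closedPoint R))
      rw [hgcp, hgDcp, e]
    refine ⟨h₁, ?_⟩
    refine TopCat.Presheaf.stalk_hom_ext _ fun U hxU => ?_
    ext s
    have hUw : ι (fst z) ∈ U := by
      have h0 : ι (g (closedPoint R)) ∈ U := hxU
      rw [hgcp] at h0
      exact h0
    have hUj : j (snd z) ∈ U := e ▸ hUw
    have hUj' : (gD ≫ j) (closedPoint R) ∈ U := by
      show j (gD (closedPoint R)) ∈ U
      rw [hgDcp]
      exact hUj
    show (Scheme.stalkClosedPointTo (g ≫ ι)).hom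
        (P.presheaf.germ U ((g ≫ ι) (closedPoint R)) hxU s) =
      (Scheme.stalkClosedPointTo (gD ≫ j)).hom ((P.presheaf.stalkCongr _).hom.hom
        (P.presheaf.germ U ((g ≫ ι) (closedPoint R)) hxU s))
    have hL : (Scheme.stalkClosedPointTo (g ≫ ι)).hom
        (P.presheaf.germ U ((g ≫ ι) (closedPoint R)) hxU s) =
        qm.hom (W.presheaf.germ (ι ⁻¹ᵁ U) (fst z) hUw (ι.app U s)) := by
      rw [stalkClosedPointTo_comp_germ_apply g ι U hxU s]
      exact stalkClosedPointTo_germ_apply qm (ι ⁻¹ᵁ U) hxU hUw (ι.app U s)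
    have hR1 : (P.presheaf.stalkCongr (Inseparable.of_eq h₁)).hom.hom
        (P.presheaf.germ U ((g ≫ ι) (closedPoint R)) hxU s) =
        P.presheaf.germ U ((gD ≫ j) (closedPoint R)) hUj' s := by
      rw [TopCat.Presheaf.stalkCongr_hom]
      exact TopCat.Presheaf.germ_stalkSpecializes_apply _ _ _ _
    have hR : (Scheme.stalkClosedPointTo (gD ≫ j)).hom
        (P.presheaf.germ U ((gD ≫ j) (closedPoint R)) hUj' s) =
        qm.hom (W.presheaf.germ (ι ⁻¹ᵁ U) (fst z) hUw (ι.app U s)) := by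
      rw [stalkClosedPointTo_comp_germ_apply gD j U hUj' s]
      have h3 := stalkClosedPointTo_germ_apply ψc (j ⁻¹ᵁ U) hUj' hUj (j.app U s)
      refine h3.trans ?_
      show ψ (D.presheaf.germ (j ⁻¹ᵁ U) (snd z) hUj (j.app U s)) = _
      rw [← Scheme.Hom.germ_stalkMap_apply, hψ, hθ U hUj hUw s]
    rw [hL]
    exact (hR1 ▸ hR).symm
  -- the lift to the fibre product
  let hl : Spec R ⟶ Q := sq.lift g gD hcomm
  have hl1 : hl ≫ fst = g := sq.lift_fst g gD hcomm
  have hz' : hl (closedPoint R) = z := by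
    apply fst.isClosedEmbedding.injective
    show (hl ≫ fst) (closedPoint R) = fst z
    rw [hl1]
    exact hgcp
  obtain ⟨V, hV, s, hs⟩ := TopCat.Presheaf.exists_germ_eq W.presheaf a
  have hVg : g (closedPoint R) ∈ V := by
    rw [hgcp]
    exact hV
  have hVg' : (hl ≫ fst) (closedPoint R) ∈ V := by
    rw [hl1]
    exact hVg
  have h0 : Q.presheaf.germ (fst ⁻¹ᵁ V) z hV (fst.app V s) = 0 := by
    rw [← Scheme.Hom.germ_stalkMap_apply, hs]
    exact ha
  have h0' : Q.presheaf.germ (fst ⁻¹ᵁ V) (hl (closedPoint R)) hVg' (fst.app V s) = 0 :=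
    germ_eq_zero_congr (fst ⁻¹ᵁ V) (fst.app V s) z (hl (closedPoint R)) hz' hV h0
  have h1 : qm.hom a = 0 := by
    rw [← hs, ← stalkClosedPointTo_germ_apply qm V hVg hV s]
    have h2 := stalkClosedPointTo_germ_congr hl1.symm V hVg s
    refine h2.trans ?_
    rw [stalkClosedPointTo_comp_germ_apply hl fst V hVg' s, h0', map_zero]
  exact Ideal.Quotient.eq_zero_iff_mem.mp h1

include sq in
/-- stalks of the base change of a closed immersion whose ideal is generated by one element -/
theorem ker_fst_stalkMap (z : Q) (τ : P.presheaf.stalk (j (snd z)))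
    (hτ : RingHom.ker (j.stalkMap (snd z)).hom = Ideal.span {τ})
    (hsp : ι (fst z) ⤳ j (snd z)) :
    RingHom.ker (fst.stalkMap z).hom =
      Ideal.span {(ι.stalkMap (fst z)).hom ((P.presheaf.stalkSpecializes hsp).hom τ)} := by
  have e := pt_comm ι j fst snd sq z
  obtain ⟨U, hU, s, hs⟩ := TopCat.Presheaf.exists_germ_eq P.presheaf τ
  have hUw : ι (fst z) ∈ U := hsp.mem_open U.isOpen hU
  have ha₀ : (ι.stalkMap (fst z)).hom ((P.presheaf.stalkSpecializes hsp).hom τ) =
      W.presheaf.germ (ι ⁻¹ᵁ U) (fst z) hUw (ι.app U s) := by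
    rw [← hs, TopCat.Presheaf.germ_stalkSpecializes_apply, Scheme.Hom.germ_stalkMap_apply]
  apply le_antisymm
  · haveI hiso : IsIso (P.presheaf.stalkSpecializes hsp) := by
      have h1 := (P.presheaf.stalkCongr (Inseparable.of_eq e.symm)).isIso_hom
      rw [TopCat.Presheaf.stalkCongr_hom] at h1
      exact h1
    haveI hl1 : IsLocalHom (P.presheaf.stalkSpecializes hsp).hom := isLocalHom_of_isIso _
    haveI hl2 : IsLocalHom ((ι.stalkMap (fst z)).hom.comp (P.presheaf.stalkSpecializes hsp).hom) :=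
      RingHom.isLocalHom_comp _ _
    refine ker_le_of_test ι j fst snd sq z _
      ((ι.stalkMap (fst z)).hom.comp (P.presheaf.stalkSpecializes hsp).hom) ?_ ?_
    · intro U' hU' hUw' s'
      rw [RingHom.comp_apply, TopCat.Presheaf.germ_stalkSpecializes_apply,
        Scheme.Hom.germ_stalkMap_apply]
    · intro b hb
      have hb' : b ∈ Ideal.span {τ} := by
        rw [← hτ]
        exact hb
      obtain ⟨c, rfl⟩ := Ideal.mem_span_singleton'.mp hb'
      rw [map_mul]
      exact Ideal.mul_mem_left _ _ (Ideal.subset_span rfl)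
  · rw [Ideal.span_le, Set.singleton_subset_iff, SetLike.mem_coe, RingHom.mem_ker, ha₀]
    have h1 : (fst.stalkMap z).hom (W.presheaf.germ (ι ⁻¹ᵁ U) (fst z) hUw (ι.app U s)) =
        Q.presheaf.germ ((fst ≫ ι) ⁻¹ᵁ U) z hUw ((fst ≫ ι).app U s) := by
      rw [Scheme.Hom.germ_stalkMap_apply]
      rfl
    have h2 := germ_comp_app snd j U z hU s
    have h3 : (j.stalkMap (snd z)).hom τ = 0 := by
      rw [← RingHom.mem_ker, hτ]
      exact Ideal.subset_span rfl
    calc (fst.stalkMap z).hom (W.presheaf.germ (ι ⁻¹ᵁ U) (fst z) hUw (ι.app U s))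
        = Q.presheaf.germ ((fst ≫ ι) ⁻¹ᵁ U) z hUw ((fst ≫ ι).app U s) := h1
      _ = Q.presheaf.germ ((snd ≫ j) ⁻¹ᵁ U) z hU ((snd ≫ j).app U s) :=
          germ_app_congr sq.w U z hUw s
      _ = (snd.stalkMap z).hom ((j.stalkMap (snd z)).hom (P.presheaf.germ U (j (snd z)) hU s)) :=
          h2.symm
      _ = 0 := by rw [hs, h3, map_zero]

end BC

end Groth.Agent.Helper7.P1Rat
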