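import Mathlib
import Groth.Prelude.Def_Cyc
import Groth.Agent.Lib.Helper7.P1Rat.BC
import Groth.Agent.Lib.Helper7.KL.Stalk
import Groth.Agent.Lib.Helper7.FinPush.Geo
import Groth.Agent.Lib.Helper7.Spz.Sub
import Groth.Agent.Lib.Helper7.Spz.PullGen
import Groth.Agent.Lib.Helper7.DivFin.Main
import Groth.Agent.S9126
import Groth.Agent.S9684

set_option linter.style.haveILetI false
set_option linter.unusedVariables false
set_option linter.unusedSectionVars false
set_option autoImplicit false
set_option backward.isDefEq.respectTransparency.types false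
set_option synthInstance.maxHeartbeats 400000
set_option maxHeartbeats 1600000

namespace Groth.Agent.Helper7.P1Rat

open CategoryTheory CategoryTheory.Limits AlgebraicGeometry TopologicalSpace Opposite IsLocalRing
open Groth.Agent.Helper7.DivFin Groth.Agent.Helper7.FinPush Groth.Agent.Helper7.KL
open Groth.Agent.Helper7.Spz

universe u

/-! helper7: Standing hypotheses for schemes locally of finite type; the local identity between orders and lengths of intersections (helper7 library) -/

section Setup

/-- the standing hypotheses pass to schemes locally of finite type with the induced dimension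
function -/
theorem isSetup_of_locallyOfFiniteType {P X : Scheme.{u}} (π : P ⟶ X) [LocallyOfFiniteType π]
    (δ : X → ℤ) (hX : Cyc.IsSetup X δ) (δP : P → ℤ) (hP : Cyc.DeltaCompat π δP δ) :
    Cyc.IsSetup P δP := by
  haveI := hX.1
  refine ⟨LocallyOfFiniteType.isLocallyNoetherian π, fun p => ?_,
    Groth.Agent.S9684.result π δ hX δP hP⟩
  have hess := LocallyOfFiniteType.stalkMap π p
  letI := (π.stalkMap p).hom.toAlgebra
  haveI : Algebra.EssFiniteType (X.presheaf.stalk (π p)) (P.presheaf.stalk p) := hess
  exact Groth.Agent.S9126.result _ _ (hX.2.1 (π p))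

theorem imm_of_isDimFun {P : Scheme.{u}} (δP : P → ℤ) (hδ : Cyc.IsDimFun P δP) (ξ p : P)
    (hdim : δP p + 1 = δP ξ) : ∀ ζ : P, ξ ⤳ ζ → ζ ⤳ p → ζ = ξ ∨ ζ = p := by
  intro ζ h1 h2
  by_contra hc
  rw [not_or] at hc
  have e1 := (hδ ξ ζ h1 (Ne.symm hc.1)).1
  have e2 := (hδ ζ p h2 hc.2).1
  omega

end Setup

section Loc

variable {P W D : Scheme.{u}} (ι : W ⟶ P) (j : D ⟶ P) [IsClosedImmersion ι]
  [IsClosedImmersion j]

/-- the length of the local ring of the intersection of a closed subscheme with a closed
subscheme locally cut out by one equation -/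
theorem length_stalk_pullback (V : P.Opens) (t : Γ(P, V)) (hjV : ∀ d : D, j d ∈ V)
    (hker : ∀ d : D, RingHom.ker (j.stalkMap d).hom =
      Ideal.span {P.presheaf.germ V (j d) (hjV d) t})
    (z : ↥(pullback ι j)) (hzV : ι (pullback.fst ι j z) ∈ V) :
    Module.length ((pullback ι j).presheaf.stalk z) ((pullback ι j).presheaf.stalk z) =
      Module.length (W.presheaf.stalk (pullback.fst ι j z))
        (W.presheaf.stalk (pullback.fst ι j z) ⧸
          Ideal.span {W.presheaf.germ (ι ⁻¹ᵁ V) (pullback.fst ι j z) hzV (ι.app V t)}) := by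
  have sq : IsPullback (pullback.fst ι j) (pullback.snd ι j) ι j := IsPullback.of_hasPullback ι j
  have e := pt_comm ι j _ _ sq z
  have hsp : ι (pullback.fst ι j z) ⤳ j (pullback.snd ι j z) := specializes_of_eq e
  have hK := ker_fst_stalkMap ι j _ _ sq z _ (hker (pullback.snd ι j z)) hsp
  rw [TopCat.Presheaf.germ_stalkSpecializes_apply, Scheme.Hom.germ_stalkMap_apply] at hK
  haveI : IsClosedImmersion (pullback.fst ι j) := isClosedImmersion_fst ι j _ _ sq
  exact Groth.Agent.Helper7.Spz.length_of_surj_ker ((pullback.fst ι j).stalkMap z).hom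
    ((pullback.fst ι j).stalkMap_surjective z) _ hK

variable [IsIntegral W]

/-- on an integral scheme the order of an element of a local ring is the colength -/
theorem ord_locQuot_generic (w : W) (h : genericPoint W ⤳ w) (a : W.presheaf.stalk w) :
    Ring.ord (Cyc.LocQuot w (genericPoint W) h)
        (Ideal.Quotient.mk (RingHom.ker (Cyc.specMap w (genericPoint W) h)) a) =
      Module.length (W.presheaf.stalk w) (W.presheaf.stalk w ⧸ Ideal.span {a}) := by
  have hinj := Groth.Agent.Helper7.FinPush.specMap_injective_of_generic w (genericPoint W) h rfl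
  have hker : RingHom.ker (Cyc.specMap w (genericPoint W) h) = ⊥ :=
    (RingHom.injective_iff_ker_eq_bot _).mp hinj
  have h1 := Groth.Agent.Helper7.Spz.length_quot_map_of_surj
    (Ideal.Quotient.mk (RingHom.ker (Cyc.specMap w (genericPoint W) h)))
    Ideal.Quotient.mk_surjective (Ideal.span {a}) (by
      rw [Ideal.mk_ker, hker]
      exact bot_le)
  rw [Ideal.map_span, Set.image_singleton] at h1
  exact h1

/-- the local identity: the order of the equation along an immediate specialization is the
length of the local ring of the intersection -/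
theorem divFun_eq_fibre_sum [IsLocallyNoetherian P] (δP : P → ℤ) (hδ : Cyc.IsDimFun P δP)
    (V : P.Opens) (t : Γ(P, V)) (hjV : ∀ d : D, j d ∈ V)
    (hker : ∀ d : D, RingHom.ker (j.stalkMap d).hom =
      Ideal.span {P.presheaf.germ V (j d) (hjV d) t})
    (hξV : ι (genericPoint W) ∈ V)
    (hne : (P.residue (ι (genericPoint W))).hom
      ((P.presheaf.germ V (ι (genericPoint W)) hξV).hom t) ≠ 0)
    (x : D) (hdim : δP (j x) + 1 = δP (ι (genericPoint W))) :
    Cyc.divFun δP (ι (genericPoint W))
        ((P.residue (ι (genericPoint W))).hom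
          ((P.presheaf.germ V (ι (genericPoint W)) hξV).hom t)) (j x) =
      ∑ᶠ z ∈ {z : ↥(pullback ι j) | pullback.snd ι j z = x},
        ((Module.length ((pullback ι j).presheaf.stalk z)
          ((pullback ι j).presheaf.stalk z)).toNat : ℤ) := by
  have sq : IsPullback (pullback.fst ι j) (pullback.snd ι j) ι j := IsPullback.of_hasPullback ι j
  by_cases hr : j x ∈ Set.range ι
  · obtain ⟨w, hw⟩ := hr
    obtain ⟨z₀, hz1, hz2⟩ := Scheme.Pullback.exists_preimage_pullback w x hw
    have hset : {z : ↥(pullback ι j) | pullback.snd ι j z = x} = {z₀} := by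
      ext z
      simp only [Set.mem_ofPred_eq, Set.mem_singleton_iff]
      constructor
      · intro hz
        exact (pullback.snd ι j).isClosedEmbedding.injective (hz.trans hz2.symm)
      · rintro rfl
        exact hz2
    rw [hset, finsum_mem_singleton]
    have hzV : ι (pullback.fst ι j z₀) ∈ V := by
      rw [hz1, hw]
      exact hjV x
    rw [length_stalk_pullback ι j V t hjV hker z₀ hzV]
    have hpt : j x = ι (pullback.fst ι j z₀) := by rw [hz1, hw]
    rw [hpt]
    have hW : genericPoint W ⤳ pullback.fst ι j z₀ := genericPoint_specializes _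
    have hsp : ι (genericPoint W) ⤳ ι (pullback.fst ι j z₀) := hW.map ι.continuous
    have hdim' : δP (ι (pullback.fst ι j z₀)) + 1 = δP (ι (genericPoint W)) := hpt ▸ hdim
    unfold Cyc.divFun
    rw [dif_pos ⟨hsp, hdim'⟩]
    have hsg := specMap_germ (ι (pullback.fst ι j z₀)) (ι (genericPoint W)) hsp V hzV t
    rw [← hsg]
    have himm := imm_of_isDimFun δP hδ _ _ hdim'
    rw [ordAt_specMap_eq _ _ hsp himm _ (by rw [hsg]; exact hne)]
    have h1 := ord_closedImmersion ι (pullback.fst ι j z₀) (genericPoint W) hW _ rfl hsp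
      (P.presheaf.germ V (ι (pullback.fst ι j z₀)) hzV t)
    rw [Scheme.Hom.germ_stalkMap_apply, ord_locQuot_generic] at h1
    exact congrArg (fun n : ℕ∞ => ((n.toNat : ℕ) : ℤ)) h1
  · have h1 : ¬ (ι (genericPoint W) ⤳ j x ∧ δP (j x) + 1 = δP (ι (genericPoint W))) := by
      rintro ⟨hsp, -⟩
      apply hr
      have hcl : IsClosed (Set.range ι) := ι.isClosedEmbedding.isClosed_range
      exact hsp.mem_closed hcl ⟨_, rfl⟩
    have hset : {z : ↥(pullback ι j) | pullback.snd ι j z = x} = ∅ := by
      ext z
      simp only [Set.mem_ofPred_eq, Set.mem_empty_iff_false, iff_false]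
      intro hz
      apply hr
      refine ⟨pullback.fst ι j z, ?_⟩
      rw [pt_comm ι j _ _ sq z, hz]
    unfold Cyc.divFun
    rw [dif_neg h1, hset, finsum_mem_empty]

end Loc

end Groth.Agent.Helper7.P1Rat
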