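import Mathlib
import Groth.Prelude.Def_Cyc
import Groth.Prelude.Def_P1
import Groth.Agent.Lib.Helper7.P1Rat.BC
import Groth.Agent.Lib.Helper1.ProjSpaceLib
import Groth.Agent.Lib.Helper1.ChowF

set_option linter.style.haveILetI false
set_option linter.unusedVariables false
set_option linter.unusedSectionVars false
set_option autoImplicit false
set_option backward.isDefEq.respectTransparency.types false
set_option synthInstance.maxHeartbeats 400000
set_option maxHeartbeats 1600000

namespace Groth.Agent.Helper7.P1Rat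

open CategoryTheory CategoryTheory.Limits AlgebraicGeometry TopologicalSpace Opposite IsLocalRing
open HomogeneousLocalization

universe u

/-! helper7: Projective line over a scheme: charts, coordinate functions, sections as zero loci (helper7 library) -/

section AwayFromSpec

variable {σ A : Type u} [CommRing A] [SetLike σ A] [AddSubgroupClass σ A]
  (𝒜 : ℕ → σ) [GradedRing 𝒜] (f : A) {m : ℕ} (f_deg : f ∈ 𝒜 m) (hm : 0 < m)

theorem awayι_eq_fromSpec :
    Proj.awayι 𝒜 f f_deg hm =
      Spec.map (Proj.basicOpenIsoAway 𝒜 f f_deg hm).inv ≫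
        (Proj.isAffineOpen_basicOpen 𝒜 f f_deg hm).fromSpec := by
  rw [Proj.awayι, Iso.inv_comp_eq, Proj.basicOpenIsoSpec_hom, Proj.basicOpenToSpec,
    Category.assoc, ← Spec.map_comp_assoc]
  have h1 : (Proj.basicOpenIsoAway 𝒜 f f_deg hm).inv ≫ Proj.awayToSection 𝒜 f = 𝟙 _ := by
    rw [← Proj.basicOpenIsoAway_hom 𝒜 f f_deg hm]
    exact Iso.inv_hom_id _
  rw [h1, Spec.map_id, Category.id_comp]
  exact ((Proj.isAffineOpen_basicOpen 𝒜 f f_deg hm).toSpecΓ_fromSpec).symm

theorem stalkClosedPointTo_fromSpec_germ {X : Scheme.{u}} {U : X.Opens} (hU : IsAffineOpen U)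
    {R : CommRingCat.{u}} [IsLocalRing R] (χ : Γ(X, U) ⟶ R)
    (hmem : (Spec.map χ ≫ hU.fromSpec) (closedPoint R) ∈ U) (s : Γ(X, U)) :
    (Scheme.stalkClosedPointTo (Spec.map χ ≫ hU.fromSpec)).hom
      (X.presheaf.germ U _ hmem s) = χ.hom s := by
  have h1 := Scheme.Spec_stalkClosedPointTo_fromSpecStalk (Spec.map χ ≫ hU.fromSpec)
  rw [← hU.fromSpecStalk_eq_fromSpecStalk hmem, IsAffineOpen.fromSpecStalk,
    ← Spec.map_comp_assoc] at h1
  have h2 := (cancel_mono hU.fromSpec).mp h1
  have h3 := Spec.map_injective h2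
  exact DFunLike.congr_fun (congrArg CommRingCat.Hom.hom h3) s

/-- evaluation of the section attached to a degree zero fraction along a morphism from a local
scheme through the chart -/
theorem stalkClosedPointTo_awayι_germ {R : CommRingCat.{u}} [IsLocalRing R]
    (φ : CommRingCat.of (Away 𝒜 f) ⟶ R)
    (hmem : (Spec.map φ ≫ Proj.awayι 𝒜 f f_deg hm) (closedPoint R) ∈ Proj.basicOpen 𝒜 f)
    (a : Away 𝒜 f) :
    (Scheme.stalkClosedPointTo (Spec.map φ ≫ Proj.awayι 𝒜 f f_deg hm)).hom
      ((Proj 𝒜).presheaf.germ (Proj.basicOpen 𝒜 f) _ hmem ((Proj.awayToSection 𝒜 f).hom a)) =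
      φ.hom a := by
  have e : Spec.map φ ≫ Proj.awayι 𝒜 f f_deg hm =
      Spec.map ((Proj.basicOpenIsoAway 𝒜 f f_deg hm).inv ≫ φ) ≫
        (Proj.isAffineOpen_basicOpen 𝒜 f f_deg hm).fromSpec := by
    rw [awayι_eq_fromSpec, Spec.map_comp, Category.assoc]
  have h1 := stalkClosedPointTo_germ_congr e (Proj.basicOpen 𝒜 f) hmem
    ((Proj.awayToSection 𝒜 f).hom a)
  rw [h1, stalkClosedPointTo_fromSpec_germ]
  show φ.hom ((Proj.basicOpenIsoAway 𝒜 f f_deg hm).inv.hom ((Proj.awayToSection 𝒜 f).hom a)) = _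
  congr 1
  have h2 : (Proj.awayToSection 𝒜 f) ≫ (Proj.basicOpenIsoAway 𝒜 f f_deg hm).inv = 𝟙 _ := by
    rw [← Proj.basicOpenIsoAway_hom 𝒜 f f_deg hm]
    exact Iso.hom_inv_id _
  exact DFunLike.congr_fun (congrArg CommRingCat.Hom.hom h2) a

end AwayFromSpec

section P1Alg

open MvPolynomial

/-- the other index -/
def oth (i : Fin (1 + 1)) : Fin (1 + 1) := 1 - i

theorem oth_ne (i : Fin (1 + 1)) : oth i ≠ i := by
  fin_cases i <;> decide

theorem oth_oth (i : Fin (1 + 1)) : oth (oth i) = i := by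
  fin_cases i <;> decide

/-- the coordinate ring of the chart -/
noncomputable abbrev AA (i : Fin (1 + 1)) : Type u := Away P1.grading.{u} (P1.T i)

/-- the coordinate on the chart -/
noncomputable def tau (i : Fin (1 + 1)) : AA.{u} i :=
  Away.isLocalizationElem (P1.X_mem i) (P1.X_mem (oth i))

theorem evalAway_tau (i : Fin (1 + 1)) : P1.evalAway.{u} i (tau i) = 0 :=
  Groth.Agent.Helper1.Chow.evalAway_elem 1 (oth_ne i).symm

theorem ringHom_ext_R0 {R : Type u} [CommRing R] (f g : P1.R0.{u} →+* R) : f = g := by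
  have h : f.comp (ULift.ringEquiv.symm : ℤ ≃+* ULift.{u} ℤ).toRingHom =
      g.comp (ULift.ringEquiv.symm : ℤ ≃+* ULift.{u} ℤ).toRingHom := RingHom.ext_int _ _
  ext x
  have hx : x = ((ULift.down x : ℤ) : ULift.{u} ℤ) := by
    ext
    simp
  rw [hx, map_intCast, map_intCast]

theorem adjoin_T_eq_top :
    Algebra.adjoin (P1.grading.{u} 0) (Set.range P1.T.{u}) = ⊤ := by
  have key : ∀ p : MvPolynomial (Fin (1 + 1)) P1.R0.{u},
      p ∈ Algebra.adjoin (P1.grading.{u} 0) (Set.range P1.T.{u}) := by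
    intro p
    induction p using MvPolynomial.induction_on with
    | C a =>
      have hmem : (C a : MvPolynomial (Fin (1 + 1)) P1.R0.{u}) ∈ P1.grading.{u} 0 :=
        (mem_homogeneousSubmodule 0 _).mpr (isHomogeneous_C _ a)
      exact Subalgebra.algebraMap_mem _ (⟨C a, hmem⟩ : P1.grading.{u} 0)
    | add p q hp hq => exact Subalgebra.add_mem _ hp hq
    | mul_X p i hp => exact Subalgebra.mul_mem _ hp (Algebra.subset_adjoin ⟨i, rfl⟩)
  rw [eq_top_iff]
  exact fun p _ => key p

theorem prod_T_pow (i j : Fin (1 + 1)) (hij : i ≠ j) (ai : Fin (1 + 1) → ℕ) :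
    ∏ k, P1.T.{u} k ^ ai k = P1.T i ^ ai i * P1.T j ^ ai j := by
  rw [Fin.prod_univ_two]
  fin_cases i <;> fin_cases j
  · exact absurd rfl hij
  · rfl
  · exact mul_comm _ _
  · exact absurd rfl hij

theorem sum_ai (i j : Fin (1 + 1)) (hij : i ≠ j) (ai : Fin (1 + 1) → ℕ) :
    ∑ k, ai k • 1 = ai i + ai j := by
  rw [Fin.sum_univ_two]
  fin_cases i <;> fin_cases j
  · exact absurd rfl hij
  · simp
  · simp [add_comm]
  · exact absurd rfl hij

theorem gen_eq_tau_pow (i : Fin (1 + 1)) (a : ℕ) (ai : Fin (1 + 1) → ℕ)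
    (hai : ∑ k, ai k • 1 = a • 1)
    (hmem : ∏ k, P1.T.{u} k ^ ai k ∈ P1.grading.{u} (a • 1)) :
    (Away.mk P1.grading.{u} (P1.X_mem i) a (∏ k, P1.T k ^ ai k) hmem : AA.{u} i) =
      tau i ^ ai (oth i) := by
  apply HomogeneousLocalization.val_injective
  have ha : a = ai i + ai (oth i) := by
    have h1 := sum_ai i (oth i) (oth_ne i).symm ai
    rw [hai] at h1
    simpa using h1
  rw [HomogeneousLocalization.val_pow, tau, Away.isLocalizationElem, Away.val_mk, Away.val_mk,
    Localization.mk_pow, Localization.mk_eq_mk_iff, Localization.r_iff_exists]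
  refine ⟨1, ?_⟩
  simp only [OneMemClass.coe_one, one_mul, SubmonoidClass.coe_pow]
  rw [prod_T_pow i (oth i) (oth_ne i).symm ai, ha]
  ring

/-- ring homomorphisms out of the coordinate ring of a chart are determined by the image of
the coordinate -/
theorem ringHom_ext_AA (i : Fin (1 + 1)) {R : Type u} [CommRing R] (φ₁ φ₂ : AA.{u} i →+* R)
    (h : φ₁ (tau i) = φ₂ (tau i)) : φ₁ = φ₂ := by
  have h0 : φ₁.comp (algebraMap (P1.grading.{u} 0) (AA.{u} i)) =
      φ₂.comp (algebraMap (P1.grading.{u} 0) (AA.{u} i)) := by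
    ext c
    obtain ⟨r, rfl⟩ := (Groth.Agent.Helper1.ProjSpaceLib.algebraMap_bijective 1 P1.R0.{u}).2 c
    exact DFunLike.congr_fun (ringHom_ext_R0
      ((φ₁.comp (algebraMap (P1.grading.{u} 0) (AA.{u} i))).comp
        (algebraMap P1.R0.{u} (P1.grading.{u} 0)))
      ((φ₂.comp (algebraMap (P1.grading.{u} 0) (AA.{u} i))).comp
        (algebraMap P1.R0.{u} (P1.grading.{u} 0)))) r
  have hgen := Away.adjoin_mk_prod_pow_eq_top (𝒜 := P1.grading.{u}) (P1.X_mem i)
    (Fin (1 + 1)) P1.T.{u} adjoin_T_eq_top (fun _ => 1) P1.X_mem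
  ext x
  have hx : x ∈ (⊤ : Subalgebra (P1.grading.{u} 0) (AA.{u} i)) := trivial
  rw [← hgen] at hx
  induction hx using Algebra.adjoin_induction with
  | mem y hy =>
    obtain ⟨a, ai, hai, hle, rfl⟩ := hy
    rw [gen_eq_tau_pow i a ai hai]
    have e1 := map_pow φ₁ (tau i) (ai (oth i))
    have e2 := map_pow φ₂ (tau i) (ai (oth i))
    rw [h] at e1
    exact e1.trans e2.symm
  | algebraMap c => exact DFunLike.congr_fun h0 c
  | add y z _ _ h1 h2 => rw [map_add, map_add, h1, h2]
  | mul y z _ _ h1 h2 => rw [map_mul, map_mul, h1, h2]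

end P1Alg

section P1Geo

variable (X : Scheme.{u})

/-- the projective line over `X` -/
noncomputable abbrev PX : Scheme.{u} := CohB1.ProjSpaceOver 1 X

/-- the structure morphism -/
noncomputable abbrev piX : PX X ⟶ X := CohB1.ProjSpaceOver.toBase 1 X

/-- the projective line over the integers -/
noncomputable abbrev PZ : Scheme.{u} := Proj P1.grading.{u}

/-- the projection to the projective line over the integers -/
noncomputable abbrev prX : PX X ⟶ PZ.{u} :=
  pullback.fst (CohB1.ProjSpace.toSpec 1 P1.R0.{u}) (specULiftZIsTerminal.from X)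

/-- the standard opens of the projective line over the integers -/
noncomputable abbrev BB (i : Fin (1 + 1)) : PZ.{u}.Opens :=
  Proj.basicOpen P1.grading.{u} (P1.T i)

/-- the charts -/
noncomputable abbrev aι (i : Fin (1 + 1)) :
    Spec (CommRingCat.of (AA.{u} i)) ⟶ PZ.{u} :=
  Proj.awayι P1.grading.{u} (P1.T i) (P1.X_mem i) one_pos

/-- the coordinate function on the standard open of the projective line over the integers -/
noncomputable abbrev ss (i : Fin (1 + 1)) : Γ(PZ.{u}, BB i) :=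
  (Proj.awayToSection P1.grading.{u} (P1.T i)).hom (tau i)

/-- the standard opens of the projective line over `X` -/
noncomputable abbrev VV (i : Fin (1 + 1)) : (PX X).Opens := prX X ⁻¹ᵁ BB i

/-- the coordinate function on the standard open -/
noncomputable def tt (i : Fin (1 + 1)) : Γ(PX X, VV X i) :=
  ((prX X).app (BB i)).hom (ss i)

theorem opensRange_aι (i : Fin (1 + 1)) : (aι.{u} i).opensRange = BB i :=
  Proj.opensRange_awayι P1.grading.{u} (P1.T i) (P1.X_mem i) one_pos

theorem mem_VV_or (p : PX X) : p ∈ VV X 0 ∨ p ∈ VV X 1 := by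
  have h := Proj.iSup_basicOpen_eq_top P1.grading.{u} (P1.T.{u})
    (Groth.Agent.Helper1.ProjSpaceLib.irrelevant_le 1 P1.R0.{u})
  have hq : prX X p ∈ ⨆ i, Proj.basicOpen P1.grading.{u} (P1.T.{u} i) := by
    rw [h]
    trivial
  rw [Opens.mem_iSup] at hq
  obtain ⟨i, hi⟩ := hq
  fin_cases i
  · exact Or.inl hi
  · exact Or.inr hi

theorem oth_zero : oth 0 = 1 := rfl

theorem oth_one : oth 1 = 0 := rfl

theorem mem_VV_or' (i : Fin (1 + 1)) (p : PX X) : p ∈ VV X i ∨ p ∈ VV X (oth i) := by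
  fin_cases i
  · exact mem_VV_or X p
  · exact (mem_VV_or X p).symm

theorem sect_piX (i : Fin (1 + 1)) : P1.sect X i ≫ piX X = 𝟙 X := pullback.lift_snd _ _ _

theorem sect_prX (i : Fin (1 + 1)) :
    P1.sect X i ≫ prX X = specULiftZIsTerminal.from X ≫ P1.point i := pullback.lift_fst _ _ _

theorem sect_eq_sec (i : Fin (1 + 1)) : P1.sect X i = Groth.Agent.Helper1.Chow.sec 1 X i := rfl

instance isClosedImmersion_sect (i : Fin (1 + 1)) : IsClosedImmersion (P1.sect X i) := by
  rw [sect_eq_sec]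
  infer_instance

theorem piX_sect_apply (i : Fin (1 + 1)) (x : X) : piX X (P1.sect X i x) = x := by
  show (P1.sect X i ≫ piX X) x = x
  rw [sect_piX]
  rfl

theorem prX_sect_apply (i : Fin (1 + 1)) (x : X) :
    prX X (P1.sect X i x) = P1.point i (specULiftZIsTerminal.from X x) := by
  show (P1.sect X i ≫ prX X) x = _
  rw [sect_prX]
  rfl

theorem sect_mem (i : Fin (1 + 1)) (x : X) : P1.sect X i x ∈ VV X i := by
  show prX X (P1.sect X i x) ∈ BB i
  rw [prX_sect_apply]
  exact Groth.Agent.Helper1.Chow.point_mem 1 i _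

theorem sect_not_mem (i : Fin (1 + 1)) (x : X) : P1.sect X i x ∉ VV X (oth i) := by
  show prX X (P1.sect X i x) ∉ BB (oth i)
  rw [prX_sect_apply]
  exact Groth.Agent.Helper1.Chow.point_not_mem 1 (oth_ne i).symm _

theorem range_subset_of_closedPoint {Y : Scheme.{u}} {R : CommRingCat.{u}} [IsLocalRing R]
    (g : Spec R ⟶ Y) (U : Y.Opens) (h : g (closedPoint R) ∈ U) : Set.range g ⊆ U := by
  rintro _ ⟨z, rfl⟩
  have hs : z ⤳ closedPoint R := IsLocalRing.specializes_closedPoint z
  exact (hs.map g.continuous).mem_open U.isOpen h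

theorem exists_factor (i : Fin (1 + 1)) {R : CommRingCat.{u}} [IsLocalRing R]
    (g : Spec R ⟶ PZ.{u}) (h : g (closedPoint R) ∈ BB i) :
    ∃ φ : CommRingCat.of (AA.{u} i) ⟶ R, g = Spec.map φ ≫ aι i := by
  have hr : Set.range g ⊆ Set.range (aι.{u} i) := by
    intro y hy
    have h1 := range_subset_of_closedPoint g (BB i) h hy
    rw [← opensRange_aι] at h1
    exact h1
  refine ⟨Spec.preimage (IsOpenImmersion.lift (aι i) g hr), ?_⟩
  rw [Spec.map_preimage, IsOpenImmersion.lift_fac]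

theorem factor_value (i : Fin (1 + 1)) {R : CommRingCat.{u}} [IsLocalRing R]
    (g : Spec R ⟶ PX X) (hmem : g (closedPoint R) ∈ VV X i)
    (φ : CommRingCat.of (AA.{u} i) ⟶ R) (hφ : g ≫ prX X = Spec.map φ ≫ aι i) :
    φ.hom (tau i) = (Scheme.stalkClosedPointTo g).hom
      ((PX X).presheaf.germ (VV X i) (g (closedPoint R)) hmem (tt X i)) := by
  have hmem' : (Spec.map φ ≫ aι i) (closedPoint R) ∈ BB i := hφ ▸ hmem
  have h1 := stalkClosedPointTo_awayι_germ P1.grading.{u} (P1.T i) (P1.X_mem i) one_pos φ hmem'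
    (tau i)
  have h2 := stalkClosedPointTo_germ_congr hφ (BB i) hmem (ss i)
  exact h1.symm.trans (h2.symm.trans
    (stalkClosedPointTo_comp_germ_apply g (prX X) (BB i) hmem (ss i)))

/-- a morphism from a local scheme on which the coordinate function vanishes factors through
the section -/
theorem core (i : Fin (1 + 1)) {R : CommRingCat.{u}} [IsLocalRing R] (g : Spec R ⟶ PX X)
    (hmem : g (closedPoint R) ∈ VV X i)
    (h0 : (Scheme.stalkClosedPointTo g).hom
      ((PX X).presheaf.germ (VV X i) (g (closedPoint R)) hmem (tt X i)) = 0) :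
    g ≫ piX X ≫ P1.sect X i = g := by
  obtain ⟨φ, hφ⟩ := exists_factor i (g ≫ prX X) hmem
  have hφ0 : φ.hom (tau i) = 0 := (factor_value X i g hmem φ hφ).trans h0
  obtain ⟨ρ, hρ⟩ := Spec.map_surjective (g ≫ piX X ≫ specULiftZIsTerminal.from X)
  have hφρ : φ = CommRingCat.ofHom (P1.evalAway i) ≫ ρ := by
    apply CommRingCat.hom_ext
    apply ringHom_ext_AA i
    rw [hφ0]
    show 0 = ρ.hom (P1.evalAway i (tau i))
    rw [evalAway_tau, map_zero]
  apply pullback.hom_ext
  · show (g ≫ piX X ≫ P1.sect X i) ≫ prX X = g ≫ prX X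
    have e1 : (g ≫ piX X ≫ P1.sect X i) ≫ prX X =
        (g ≫ piX X ≫ specULiftZIsTerminal.from X) ≫ P1.point i := by
      rw [Category.assoc, Category.assoc, sect_prX, Category.assoc, Category.assoc]
      rfl
    rw [e1, ← hρ, hφ, hφρ, Spec.map_comp, Category.assoc]
    rfl
  · show (g ≫ piX X ≫ P1.sect X i) ≫ piX X = g ≫ piX X
    rw [Category.assoc, Category.assoc, sect_piX, Category.comp_id]

theorem mem_VV_oth_of_isUnit (i : Fin (1 + 1)) {R : CommRingCat.{u}} [IsLocalRing R]
    (g : Spec R ⟶ PX X) (hmem : g (closedPoint R) ∈ VV X i)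
    (hu : IsUnit ((Scheme.stalkClosedPointTo g).hom
      ((PX X).presheaf.germ (VV X i) (g (closedPoint R)) hmem (tt X i)))) :
    g (closedPoint R) ∈ VV X (oth i) := by
  obtain ⟨φ, hφ⟩ := exists_factor i (g ≫ prX X) hmem
  have hφu : IsUnit (φ.hom (tau i)) := by
    rw [factor_value X i g hmem φ hφ]
    exact hu
  show (g ≫ prX X) (closedPoint R) ∈ BB (oth i)
  rw [hφ]
  show Spec.map φ (closedPoint R) ∈ aι i ⁻¹ᵁ BB (oth i)
  rw [Proj.awayι_preimage_basicOpen P1.grading.{u} (P1.X_mem i) one_pos (P1.X_mem (oth i)) one_pos]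
  show tau i ∉ (Spec.map φ (closedPoint R)).asIdeal
  intro hc
  have hc' : φ.hom (tau i) ∈ maximalIdeal R := hc
  exact (IsLocalRing.mem_maximalIdeal _).mp hc' hφu

/-- the canonical morphism from the spectrum of the residue field -/
noncomputable abbrev gκ {Y : Scheme.{u}} (y : Y) : Spec (Y.residueField y) ⟶ Y :=
  Spec.map (Y.residue y) ≫ Y.fromSpecStalk y

instance isLocalHom_residue_hom {Y : Scheme.{u}} (y : Y) : IsLocalHom (Y.residue y).hom :=
  IsLocalHom.of_surjective (IsLocalRing.residue (Y.presheaf.stalk y))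
    IsLocalRing.residue_surjective

theorem gκ_closedPoint {Y : Scheme.{u}} (y : Y) :
    gκ y (closedPoint (Y.residueField y)) = y := by
  show (Spec.map (Y.residue y) ≫ Y.fromSpecStalk y) (closedPoint _) = y
  rw [Scheme.Hom.comp_apply, Spec_closedPoint, Scheme.fromSpecStalk_closedPoint]

theorem stalkClosedPointTo_fromSpecStalk_germ {Y : Scheme.{u}} (y : Y) (U : Y.Opens)
    (hU : (Y.fromSpecStalk y) (closedPoint (Y.presheaf.stalk y)) ∈ U) (hy : y ∈ U)
    (s : Γ(Y, U)) :
    (Scheme.stalkClosedPointTo (Y.fromSpecStalk y)).hom (Y.presheaf.germ U _ hU s) =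
      Y.presheaf.germ U y hy s := by
  rw [Scheme.stalkClosedPointTo_fromSpecStalk, TopCat.Presheaf.stalkCongr_hom]
  exact TopCat.Presheaf.germ_stalkSpecializes_apply _ _ _ _

theorem mem_VV_oth_of_isUnit_germ (i : Fin (1 + 1)) (p : PX X) (hp : p ∈ VV X i)
    (hu : IsUnit ((PX X).presheaf.germ (VV X i) p hp (tt X i))) : p ∈ VV X (oth i) := by
  have hg := gκ_closedPoint p
  have hmem : gκ p (closedPoint _) ∈ VV X i := by
    rw [hg]
    exact hp
  have h1 := stalkClosedPointTo_germ_apply ((PX X).residue p) (VV X i) hmem hp (tt X i)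
  have h2 := mem_VV_oth_of_isUnit X i (gκ p) hmem (by
    rw [h1]
    exact hu.map _)
  rw [hg] at h2
  exact h2

/-- the complement of a standard open is the image of the opposite section -/
theorem mem_range_sect (i : Fin (1 + 1)) (p : PX X) (hp : p ∉ VV X (oth i)) :
    p ∈ Set.range (P1.sect X i) := by
  have hpi : p ∈ VV X i := (mem_VV_or' X i p).resolve_right hp
  have hnu : ¬ IsUnit ((PX X).presheaf.germ (VV X i) p hpi (tt X i)) :=
    fun hu => hp (mem_VV_oth_of_isUnit_germ X i p hpi hu)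
  have hg := gκ_closedPoint p
  have hmem : gκ p (closedPoint _) ∈ VV X i := by
    rw [hg]
    exact hpi
  have h1 := stalkClosedPointTo_germ_apply ((PX X).residue p) (VV X i) hmem hpi (tt X i)
  have h0 : (Scheme.stalkClosedPointTo (gκ p)).hom
      ((PX X).presheaf.germ (VV X i) _ hmem (tt X i)) = 0 := by
    rw [h1]
    exact (IsLocalRing.residue_eq_zero_iff _).mpr ((IsLocalRing.mem_maximalIdeal _).mpr hnu)
  have h2 := core X i (gκ p) hmem h0
  refine ⟨piX X (gκ p (closedPoint _)), ?_⟩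
  have h3 : (gκ p ≫ piX X ≫ P1.sect X i) (closedPoint _) = gκ p (closedPoint _) := by
    rw [h2]
  exact h3.trans hg

theorem range_sect (i : Fin (1 + 1)) :
    Set.range (P1.sect X i) = ((VV X (oth i) : Set (PX X)))ᶜ := by
  ext p
  constructor
  · rintro ⟨x, rfl⟩
    exact sect_not_mem X i x
  · intro hp
    exact mem_range_sect X i p hp

theorem am_mul :
    HomogeneousLocalization.awayMap P1.grading.{u} (P1.X_mem 1)
        (rfl : P1.T.{u} 0 * P1.T 1 = P1.T 0 * P1.T 1) (tau 0) *
      HomogeneousLocalization.awayMap P1.grading.{u} (P1.X_mem 0)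
        (mul_comm _ _ : P1.T.{u} 0 * P1.T 1 = P1.T 1 * P1.T 0) (tau 1) = 1 := by
  apply HomogeneousLocalization.val_injective
  rw [HomogeneousLocalization.val_mul, HomogeneousLocalization.val_one]
  show (HomogeneousLocalization.awayMap P1.grading.{u} (P1.X_mem 1)
        (rfl : P1.T.{u} 0 * P1.T 1 = P1.T 0 * P1.T 1)
        (Away.mk P1.grading.{u} (P1.X_mem 0) 1 (P1.T 1 ^ 1) _)).val *
      (HomogeneousLocalization.awayMap P1.grading.{u} (P1.X_mem 0)
        (mul_comm _ _ : P1.T.{u} 0 * P1.T 1 = P1.T 1 * P1.T 0)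
        (Away.mk P1.grading.{u} (P1.X_mem 1) 1 (P1.T 0 ^ 1) _)).val = 1
  rw [HomogeneousLocalization.awayMap_mk, HomogeneousLocalization.awayMap_mk, Away.val_mk,
    Away.val_mk, Localization.mk_mul, ← Localization.mk_one, Localization.mk_eq_mk_iff,
    Localization.r_iff_exists]
  refine ⟨1, ?_⟩
  simp only [OneMemClass.coe_one, one_mul, mul_one, Submonoid.coe_mul]
  ring

/-- the two coordinate functions are inverse to each other on the intersection of the charts -/
theorem ss_mul (q : PZ.{u}) (h0 : q ∈ BB 0) (h1 : q ∈ BB 1) :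
    PZ.{u}.presheaf.germ (BB 0) q h0 (ss 0) * PZ.{u}.presheaf.germ (BB 1) q h1 (ss 1) = 1 := by
  have hB : Proj.basicOpen P1.grading.{u} (P1.T 0 * P1.T 1) = BB 0 ⊓ BB 1 :=
    Proj.basicOpen_mul _ _ _
  have hqx : q ∈ Proj.basicOpen P1.grading.{u} (P1.T 0 * P1.T 1) := by
    rw [hB]
    exact ⟨h0, h1⟩
  have hle0 : Proj.basicOpen P1.grading.{u} (P1.T 0 * P1.T 1) ≤ BB 0 := hB.le.trans inf_le_left
  have hle1 : Proj.basicOpen P1.grading.{u} (P1.T 0 * P1.T 1) ≤ BB 1 := hB.le.trans inf_le_right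
  have e0 := DFunLike.congr_fun (congrArg CommRingCat.Hom.hom
    (Proj.awayMap_awayToSection P1.grading.{u} (P1.X_mem 1)
      (rfl : P1.T.{u} 0 * P1.T 1 = P1.T 0 * P1.T 1))) (tau 0)
  have e1 := DFunLike.congr_fun (congrArg CommRingCat.Hom.hom
    (Proj.awayMap_awayToSection P1.grading.{u} (P1.X_mem 0)
      (mul_comm _ _ : P1.T.{u} 0 * P1.T 1 = P1.T 1 * P1.T 0))) (tau 1)
  have g0 : PZ.{u}.presheaf.germ (BB 0) q h0 (ss 0) =
      PZ.{u}.presheaf.germ (Proj.basicOpen P1.grading.{u} (P1.T 0 * P1.T 1)) q hqx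
        ((Proj.awayToSection P1.grading.{u} (P1.T 0 * P1.T 1)).hom
          (HomogeneousLocalization.awayMap P1.grading.{u} (P1.X_mem 1)
            (rfl : P1.T.{u} 0 * P1.T 1 = P1.T 0 * P1.T 1) (tau 0))) := by
    have := TopCat.Presheaf.germ_res_apply PZ.{u}.presheaf (homOfLE hle0) q hqx (ss 0)
    rw [← this]
    exact congrArg _ e0.symm
  have g1 : PZ.{u}.presheaf.germ (BB 1) q h1 (ss 1) =
      PZ.{u}.presheaf.germ (Proj.basicOpen P1.grading.{u} (P1.T 0 * P1.T 1)) q hqx
        ((Proj.awayToSection P1.grading.{u} (P1.T 0 * P1.T 1)).hom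
          (HomogeneousLocalization.awayMap P1.grading.{u} (P1.X_mem 0)
            (mul_comm _ _ : P1.T.{u} 0 * P1.T 1 = P1.T 1 * P1.T 0) (tau 1))) := by
    have := TopCat.Presheaf.germ_res_apply PZ.{u}.presheaf (homOfLE hle1) q hqx (ss 1)
    rw [← this]
    exact congrArg _ e1.symm
  rw [g0, g1, ← map_mul, ← map_mul, am_mul, map_one, map_one]

theorem tt_mul (p : PX X) (h0 : p ∈ VV X 0) (h1 : p ∈ VV X 1) :
    (PX X).presheaf.germ (VV X 0) p h0 (tt X 0) * (PX X).presheaf.germ (VV X 1) p h1 (tt X 1) =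
      1 := by
  have e0 : (PX X).presheaf.germ (VV X 0) p h0 (tt X 0) =
      ((prX X).stalkMap p).hom (PZ.{u}.presheaf.germ (BB 0) (prX X p) h0 (ss 0)) :=
    (Scheme.Hom.germ_stalkMap_apply (prX X) (BB 0) p h0 (ss 0)).symm
  have e1 : (PX X).presheaf.germ (VV X 1) p h1 (tt X 1) =
      ((prX X).stalkMap p).hom (PZ.{u}.presheaf.germ (BB 1) (prX X p) h1 (ss 1)) :=
    (Scheme.Hom.germ_stalkMap_apply (prX X) (BB 1) p h1 (ss 1)).symm
  rw [e0, e1, ← map_mul, ss_mul (prX X p) h0 h1, map_one]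

theorem stalkMap_sect_tt (i : Fin (1 + 1)) (x : X) :
    ((P1.sect X i).stalkMap x).hom
      ((PX X).presheaf.germ (VV X i) (P1.sect X i x) (sect_mem X i x) (tt X i)) = 0 := by
  have hcp : (X.fromSpecStalk x) (closedPoint (X.presheaf.stalk x)) = x :=
    Scheme.fromSpecStalk_closedPoint
  have hmem : (X.fromSpecStalk x ≫ P1.sect X i) (closedPoint (X.presheaf.stalk x)) ∈ VV X i :=
    sect_mem X i _
  obtain ⟨ρ, hρ⟩ := Spec.map_surjective (X.fromSpecStalk x ≫ specULiftZIsTerminal.from X)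
  have hφ : (X.fromSpecStalk x ≫ P1.sect X i) ≫ prX X =
      Spec.map (CommRingCat.ofHom (P1.evalAway i) ≫ ρ) ≫ aι i := by
    rw [Category.assoc, sect_prX, Spec.map_comp, hρ, Category.assoc, Category.assoc]
    rfl
  have fv := factor_value X i (X.fromSpecStalk x ≫ P1.sect X i) hmem _ hφ
  have fv0 : (CommRingCat.ofHom (P1.evalAway i) ≫ ρ).hom (tau i) = 0 := by
    show ρ.hom (P1.evalAway i (tau i)) = 0
    rw [evalAway_tau, map_zero]
  rw [fv0, stalkClosedPointTo_comp_germ_apply (X.fromSpecStalk x) (P1.sect X i) (VV X i) hmem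
    (tt X i)] at fv
  have hx' : x ∈ P1.sect X i ⁻¹ᵁ VV X i := sect_mem X i x
  rw [stalkClosedPointTo_fromSpecStalk_germ x (P1.sect X i ⁻¹ᵁ VV X i) hmem hx'] at fv
  rw [Scheme.Hom.germ_stalkMap_apply]
  exact fv.symm

/-- the ideal of the section is generated by the coordinate function -/
theorem ker_stalkMap_sect (i : Fin (1 + 1)) (x : X) :
    RingHom.ker ((P1.sect X i).stalkMap x).hom =
      Ideal.span {(PX X).presheaf.germ (VV X i) (P1.sect X i x) (sect_mem X i x) (tt X i)} := by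
  apply le_antisymm
  · intro a ha
    rw [RingHom.mem_ker] at ha
    by_cases hI : Ideal.span {(PX X).presheaf.germ (VV X i) (P1.sect X i x) (sect_mem X i x)
        (tt X i)} = ⊤
    · rw [hI]
      trivial
    haveI : Nontrivial ((PX X).presheaf.stalk (P1.sect X i x) ⧸ Ideal.span
        {(PX X).presheaf.germ (VV X i) (P1.sect X i x) (sect_mem X i x) (tt X i)}) :=
      Ideal.Quotient.nontrivial_iff.mpr hI
    haveI : IsLocalRing ((PX X).presheaf.stalk (P1.sect X i x) ⧸ Ideal.span
        {(PX X).presheaf.germ (VV X i) (P1.sect X i x) (sect_mem X i x) (tt X i)}) :=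
      IsLocalRing.of_surjective' (Ideal.Quotient.mk _) Ideal.Quotient.mk_surjective
    let R : CommRingCat.{u} := CommRingCat.of ((PX X).presheaf.stalk (P1.sect X i x) ⧸
      Ideal.span {(PX X).presheaf.germ (VV X i) (P1.sect X i x) (sect_mem X i x) (tt X i)})
    haveI : IsLocalRing R := inferInstanceAs
      (IsLocalRing ((PX X).presheaf.stalk (P1.sect X i x) ⧸ Ideal.span
        {(PX X).presheaf.germ (VV X i) (P1.sect X i x) (sect_mem X i x) (tt X i)}))
    let qm : (PX X).presheaf.stalk (P1.sect X i x) ⟶ R :=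
      CommRingCat.ofHom (Ideal.Quotient.mk (Ideal.span
        {(PX X).presheaf.germ (VV X i) (P1.sect X i x) (sect_mem X i x) (tt X i)}))
    haveI hqml : IsLocalHom qm.hom :=
      IsLocalHom.of_surjective (Ideal.Quotient.mk _) Ideal.Quotient.mk_surjective
    let g : Spec R ⟶ PX X := Spec.map qm ≫ (PX X).fromSpecStalk (P1.sect X i x)
    have hgcp : g (closedPoint R) = P1.sect X i x := by
      show (Spec.map qm ≫ (PX X).fromSpecStalk (P1.sect X i x)) (closedPoint R) = _
      rw [Scheme.Hom.comp_apply, Spec_closedPoint, Scheme.fromSpecStalk_closedPoint]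
    have hmem : g (closedPoint R) ∈ VV X i := by
      rw [hgcp]
      exact sect_mem X i x
    have h0 : (Scheme.stalkClosedPointTo g).hom
        ((PX X).presheaf.germ (VV X i) (g (closedPoint R)) hmem (tt X i)) = 0 := by
      have h1 := stalkClosedPointTo_germ_apply qm (VV X i) hmem (sect_mem X i x) (tt X i)
      exact h1.trans (Ideal.Quotient.eq_zero_iff_mem.mpr (Ideal.subset_span rfl))
    have hc := core X i g hmem h0
    let h : Spec R ⟶ X := g ≫ piX X
    have hh : h (closedPoint R) = x := by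
      show piX X (g (closedPoint R)) = x
      rw [hgcp]
      exact piX_sect_apply X i x
    have hgh : h ≫ P1.sect X i = g := by
      show (g ≫ piX X) ≫ P1.sect X i = g
      rw [Category.assoc]
      exact hc
    obtain ⟨V, hV, s, hs⟩ := TopCat.Presheaf.exists_germ_eq (PX X).presheaf a
    have hVg : g (closedPoint R) ∈ V := by
      rw [hgcp]
      exact hV
    have hVg' : (h ≫ P1.sect X i) (closedPoint R) ∈ V := by
      rw [hgh]
      exact hVg
    have h0s : X.presheaf.germ (P1.sect X i ⁻¹ᵁ V) x hV ((P1.sect X i).app V s) = 0 := by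
      rw [← Scheme.Hom.germ_stalkMap_apply, hs]
      exact ha
    have h0s' : X.presheaf.germ (P1.sect X i ⁻¹ᵁ V) (h (closedPoint R)) hVg'
        ((P1.sect X i).app V s) = 0 :=
      germ_eq_zero_congr (P1.sect X i ⁻¹ᵁ V) ((P1.sect X i).app V s) x (h (closedPoint R)) hh hV
        h0s
    have h1 : qm.hom a = 0 := by
      rw [← hs, ← stalkClosedPointTo_germ_apply qm V hVg hV s]
      have h2 := stalkClosedPointTo_germ_congr hgh.symm V hVg s
      refine h2.trans ?_
      rw [stalkClosedPointTo_comp_germ_apply h (P1.sect X i) V hVg' s, h0s', map_zero]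
    exact Ideal.Quotient.eq_zero_iff_mem.mp h1
  · rw [Ideal.span_le, Set.singleton_subset_iff, SetLike.mem_coe, RingHom.mem_ker]
    exact stalkMap_sect_tt X i x

end P1Geo

end Groth.Agent.Helper7.P1Rat
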