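import Mathlib
import Groth.Prelude.Def_Cyc
import Groth.Prelude.Def_P1
import Groth.Agent.Lib.Helper7.P1Rat.Proj
import Groth.Agent.Lib.Helper7.P1Rat.Loc
import Groth.Agent.Lib.Helper7.PushRat.Key
import Groth.Agent.Lib.Helper7.DivFin.MV
import Groth.Agent.Lib.Helper1.HProj2

set_option linter.style.haveILetI false
set_option linter.unusedVariables false
set_option linter.unusedSectionVars false
set_option autoImplicit false
set_option backward.isDefEq.respectTransparency.types false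
set_option synthInstance.maxHeartbeats 400000
set_option maxHeartbeats 1600000

namespace Groth.Agent.Helper7.P1Rat

open CategoryTheory CategoryTheory.Limits AlgebraicGeometry TopologicalSpace Opposite IsLocalRing
open Groth.Agent.Helper7.DivFin Groth.Agent.Helper7.FinDeg Groth.Agent.Helper7.FinPush
open Groth.Agent.Helper7.KL Groth.Agent.Helper7.PDeg Groth.Agent.Helper7.GFib
open Groth.Agent.Helper7.PushRat

universe u

/-! helper7: Fibres over zero and infinity of an integral closed subscheme of the projective line are rationally equivalent (helper7 library) -/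

section Main

variable (X : Scheme.{u}) (δ : X → ℤ) (δP : ↥(PX X) → ℤ)

theorem deltaP_sect (hP : Cyc.DeltaCompat (piX X) δP δ) (i : Fin (1 + 1)) (x : X) :
    δP (P1.sect X i x) = δ x := by
  obtain ⟨n, hn, hδn⟩ := hP (P1.sect X i x)
  have h1 := trdegAt_comp (P1.sect X i) (piX X) x
  rw [trdegAt_eq_zero_of_bijective (P1.sect X i) x (bij_of_closedImmersion (P1.sect X i) x),
    add_zero] at h1
  have h2 : trdegAt (P1.sect X i ≫ piX X) x = 0 := by
    rw [sect_piX]
    exact trdegAt_eq_zero_of_bijective (𝟙 X) x (bij_of_closedImmersion (𝟙 X) x)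
  have h3 : trdegAt (piX X) (P1.sect X i x) = n := hn
  rw [h2, h3] at h1
  have hn0 : n = 0 := by exact_mod_cast h1.symm
  rw [hδn, hn0, piX_sect_apply]
  simp

theorem mapCoeff_sect (hP : Cyc.DeltaCompat (piX X) δP δ) (i : Fin (1 + 1)) (x : X) :
    AlgebraicCycle.mapCoeff (piX X) δP δ (P1.sect X i x) = 1 := by
  have hfac : 𝟙 X ≫ 𝟙 X = P1.sect X i ≫ piX X := by rw [sect_piX, Category.comp_id]
  have h1 := mapCoeff_sq (P1.sect X i) (𝟙 X) (𝟙 X) (piX X) hfac δP δ x
  rw [← h1]
  unfold AlgebraicCycle.mapCoeff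
  split_ifs with hc
  · exact residueDegree_eq_one_of_bijective (𝟙 X) x (bij_of_closedImmersion (𝟙 X) x)
  · exact absurd (deltaP_sect X δ δP hP i x) hc

/-- the rational function attached to the coordinate on a chart -/
noncomputable def gg (ξ : ↥(PX X)) (i : Fin (1 + 1)) (hξ : ξ ∈ VV X i) : (PX X).residueField ξ :=
  ((PX X).residue ξ).hom (((PX X).presheaf.germ (VV X i) ξ hξ).hom (tt X i))

theorem gg_mul (ξ : ↥(PX X)) (h0 : ξ ∈ VV X 0) (h1 : ξ ∈ VV X 1) :
    gg X ξ 0 h0 * gg X ξ 1 h1 = 1 := by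
  unfold gg
  rw [← map_mul]
  have h := tt_mul X ξ h0 h1
  have h' : ((PX X).presheaf.germ (VV X 0) ξ h0).hom (tt X 0) *
      ((PX X).presheaf.germ (VV X 1) ξ h1).hom (tt X 1) = 1 := h
  rw [h', map_one]

theorem mem_VV_of_notMem_range (i : Fin (1 + 1)) (p : ↥(PX X))
    (hp : p ∉ Set.range ⇑(P1.sect X i)) : p ∈ VV X (oth i) := by
  by_contra hc
  exact hp (mem_range_sect X i p hc)

/-- the multiplicities of the fibre of a closed subscheme along a section are the orders of the
coordinate function -/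
theorem subschemeFun_eq_divFun (hX : Cyc.IsSetup X δ) (hP : Cyc.DeltaCompat (piX X) δP δ)
    (k : ℤ) (W : Scheme.{u}) [IsIntegral W] (ι : W ⟶ PX X) [IsClosedImmersion ι]
    (hW : δP (ι (genericPoint W)) = k + 1) (i : Fin (1 + 1))
    (hξ : ι (genericPoint W) ∈ VV X i) (hne : gg X (ι (genericPoint W)) i hξ ≠ 0) (x : X) :
    Cyc.subschemeFun δ k (pullback.snd ι (P1.sect X i)) x =
      Cyc.divFun δP (ι (genericPoint W)) (gg X (ι (genericPoint W)) i hξ) (P1.sect X i x) := by
  have hPS : Cyc.IsSetup (PX X) δP := isSetup_of_locallyOfFiniteType (piX X) δ hX δP hP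
  haveI := hPS.1
  by_cases hk : δ x = k
  · have hdim : δP (P1.sect X i x) + 1 = δP (ι (genericPoint W)) := by
      rw [deltaP_sect X δ δP hP i x, hW, hk]
    have h := divFun_eq_fibre_sum ι (P1.sect X i) δP hPS.2.2 (VV X i) (tt X i) (sect_mem X i)
      (ker_stalkMap_sect X i) hξ hne x hdim
    unfold Cyc.subschemeFun
    rw [if_pos hk]
    exact h.symm
  · unfold Cyc.subschemeFun
    rw [if_neg hk]
    unfold Cyc.divFun
    rw [dif_neg]
    rintro ⟨-, hd⟩
    rw [deltaP_sect X δ δP hP i x, hW] at hd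
    exact hk (by omega)

theorem divFun_eq_zero_of_mem_inter (ξ p : ↥(PX X)) (h0ξ : ξ ∈ VV X 0) (hp0 : p ∈ VV X 0)
    (hp1 : p ∈ VV X 1) : Cyc.divFun δP ξ (gg X ξ 0 h0ξ) p = 0 := by
  unfold Cyc.divFun
  by_cases hc : ξ ⤳ p ∧ δP p + 1 = δP ξ
  · rw [dif_pos hc]
    have hu : IsUnit (((PX X).presheaf.germ (VV X 0) p hp0).hom (tt X 0)) :=
      IsUnit.of_mul_eq_one _ (tt_mul X p hp0 hp1)
    have hsg := specMap_germ p ξ hc.1 (VV X 0) hp0 (tt X 0)
    have h1 := ordAt_specMap_unit p ξ hc.1 _ hu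
    rw [hsg] at h1
    exact h1
  · rw [dif_neg hc]

theorem sect_zero_ne_sect_one (x : X) : P1.sect X 0 x ≠ P1.sect X 1 x :=
  fun h => sect_not_mem X 1 x (h ▸ sect_mem X 0 x)

/-- the difference of the two fibres is the pushforward of the divisor of the coordinate -/
theorem main_identity (hX : Cyc.IsSetup X δ) (hP : Cyc.DeltaCompat (piX X) δP δ)
    (k : ℤ) (W : Scheme.{u}) [IsIntegral W] (ι : W ⟶ PX X) [IsClosedImmersion ι]
    (hW : δP (ι (genericPoint W)) = k + 1)
    (h0ξ : ι (genericPoint W) ∈ VV X 0) (h1ξ : ι (genericPoint W) ∈ VV X 1) (x : X) :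
    Cyc.subschemeFun δ k (pullback.snd ι (P1.sect X 0)) x -
        Cyc.subschemeFun δ k (pullback.snd ι (P1.sect X 1)) x =
      ∑ᶠ p ∈ piX X ⁻¹' {x}, Cyc.divFun δP (ι (genericPoint W))
        (gg X (ι (genericPoint W)) 0 h0ξ) p *
          ((AlgebraicCycle.mapCoeff (piX X) δP δ p : ℕ) : ℤ) := by
  have hmul := gg_mul X _ h0ξ h1ξ
  have hg0 : gg X _ 0 h0ξ ≠ 0 := left_ne_zero_of_mul_eq_one hmul
  have hg1 : gg X _ 1 h1ξ ≠ 0 := right_ne_zero_of_mul_eq_one hmul
  have hinv : gg X _ 1 h1ξ = (gg X _ 0 h0ξ)⁻¹ := eq_inv_of_mul_eq_one_right hmul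
  rw [subschemeFun_eq_divFun X δ δP hX hP k W ι hW 0 h0ξ hg0 x,
    subschemeFun_eq_divFun X δ δP hX hP k W ι hW 1 h1ξ hg1 x, hinv, divFun_inv δP _ _ hg0]
  have hsupp : (piX X ⁻¹' {x}) ∩ Function.support (fun p => Cyc.divFun δP (ι (genericPoint W))
        (gg X (ι (genericPoint W)) 0 h0ξ) p *
          ((AlgebraicCycle.mapCoeff (piX X) δP δ p : ℕ) : ℤ)) =
      ({P1.sect X 0 x, P1.sect X 1 x} : Set ↥(PX X)) ∩ Function.support
        (fun p => Cyc.divFun δP (ι (genericPoint W))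
        (gg X (ι (genericPoint W)) 0 h0ξ) p *
          ((AlgebraicCycle.mapCoeff (piX X) δP δ p : ℕ) : ℤ)) := by
    ext p
    constructor
    · rintro ⟨hp, hFp⟩
      refine ⟨?_, hFp⟩
      by_contra hc
      rw [Set.mem_insert_iff, Set.mem_singleton_iff, not_or] at hc
      have hpx : piX X p = x := hp
      have hp1 : p ∈ VV X 1 := by
        apply mem_VV_of_notMem_range X 0 p
        rintro ⟨x', rfl⟩
        apply hc.1
        rw [piX_sect_apply] at hpx
        rw [hpx]
      have hp0 : p ∈ VV X 0 := by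
        apply mem_VV_of_notMem_range X 1 p
        rintro ⟨x', rfl⟩
        apply hc.2
        rw [piX_sect_apply] at hpx
        rw [hpx]
      apply hFp
      show Cyc.divFun δP _ _ p * _ = 0
      rw [divFun_eq_zero_of_mem_inter X δP _ p h0ξ hp0 hp1, zero_mul]
    · rintro ⟨hp, hFp⟩
      refine ⟨?_, hFp⟩
      rw [Set.mem_insert_iff, Set.mem_singleton_iff] at hp
      rcases hp with rfl | rfl
      · exact piX_sect_apply X 0 x
      · exact piX_sect_apply X 1 x
  rw [finsum_mem_inter_support_eq _ _ _ hsupp, finsum_mem_pair (sect_zero_ne_sect_one X x),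
    mapCoeff_sect X δ δP hP 0 x, mapCoeff_sect X δ δP hP 1 x]
  push_cast
  ring

/-- the two fibres of an integral closed subscheme of the projective line not contained in
either section are rationally equivalent -/
theorem main (hX : Cyc.IsSetup X δ) (hP : Cyc.DeltaCompat (piX X) δP δ)
    (k : ℤ) (W : Scheme.{u}) [IsIntegral W] (ι : W ⟶ PX X) [IsClosedImmersion ι]
    (hW : δP (ι (genericPoint W)) = k + 1)
    (h0 : ι (genericPoint W) ∉ Set.range ⇑(P1.sect X 0))
    (h1 : ι (genericPoint W) ∉ Set.range ⇑(P1.sect X 1)) (α β : AlgebraicCycle X ℤ)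
    (hα : ⇑α = Cyc.subschemeFun δ k (pullback.snd ι (P1.sect X 0)))
    (hβ : ⇑β = Cyc.subschemeFun δ k (pullback.snd ι (P1.sect X 1))) : Cyc.RatEquiv δ k α β := by
  have hPS : Cyc.IsSetup (PX X) δP := isSetup_of_locallyOfFiniteType (piX X) δ hX δP hP
  have h0ξ : ι (genericPoint W) ∈ VV X 0 := mem_VV_of_notMem_range X 1 _ h1
  have h1ξ : ι (genericPoint W) ∈ VV X 1 := mem_VV_of_notMem_range X 0 _ h0
  have hmul := gg_mul X _ h0ξ h1ξ
  have hg0 : gg X _ 0 h0ξ ≠ 0 := left_ne_zero_of_mul_eq_one hmul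
  have hMI : ∀ x, (α - β) x = if δP (ι (genericPoint W)) = δ (piX X (ι (genericPoint W))) then
      Cyc.divFun δ (piX X (ι (genericPoint W)))
        (Cyc.normGen (piX X) (ι (genericPoint W)) (gg X (ι (genericPoint W)) 0 h0ξ)) x
      else 0 := by
    intro x
    rw [Function.locallyFinsuppWithin.coe_sub, Pi.sub_apply, hα, hβ,
      main_identity X δ δP hX hP k W ι hW h0ξ h1ξ x,
      key δP δ hPS hX (piX X) hP (ι (genericPoint W)) _ hg0 x]
  unfold Cyc.RatEquiv Cyc.RatEquivZero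
  by_cases hd : δP (ι (genericPoint W)) = δ (piX X (ι (genericPoint W)))
  · refine ⟨PUnit.{u+1}, fun _ => piX X (ι (genericPoint W)),
      fun _ => Cyc.normGen (piX X) (ι (genericPoint W)) (gg X (ι (genericPoint W)) 0 h0ξ),
      fun _ => ?_, fun _ => normGen_ne_zero _ _ _ hg0,
      fun x => ⟨Set.univ, isOpen_univ, trivial, Set.toFinite _⟩, fun x => ?_⟩
    · rw [← hd]
      exact hW
    · rw [hMI x, if_pos hd, finsum_unique]
  · refine ⟨PEmpty.{u+1}, fun i : PEmpty.{u+1} => PEmpty.elim i,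
      fun i : PEmpty.{u+1} => PEmpty.elim i, fun i : PEmpty.{u+1} => PEmpty.elim i,
      fun i : PEmpty.{u+1} => PEmpty.elim i,
      fun x => ⟨Set.univ, isOpen_univ, trivial, Set.toFinite _⟩, fun x => ?_⟩
    rw [hMI x, if_neg hd, finsum_of_isEmpty]

end Main

end Groth.Agent.Helper7.P1Rat
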