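import Mathlib
import Groth.Prelude.Def_Cyc
import Groth.Prelude.Def_P1
import Groth.Agent.Lib.Helper7.P1Rat.Main

set_option linter.style.haveILetI false
set_option linter.unusedVariables false
set_option linter.unusedSectionVars false
set_option autoImplicit false
set_option backward.isDefEq.respectTransparency.types false
set_option synthInstance.maxHeartbeats 400000
set_option maxHeartbeats 1600000

namespace Groth.Agent.Helper7.P1Rat

open CategoryTheory CategoryTheory.Limits AlgebraicGeometry TopologicalSpace Opposite IsLocalRing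
open Groth.Agent.Helper7.DivFin Groth.Agent.Helper7.FinDeg Groth.Agent.Helper7.FinPush
open Groth.Agent.Helper7.KL Groth.Agent.Helper7.PDeg Groth.Agent.Helper7.GFib
open Groth.Agent.Helper7.PushRat
open HomogeneousLocalization

universe u

/-! helper7: Scheme theoretic images of integral schemes; rational points of the projective line over points of the base; divisor of a function as difference of fibres of the graph closure; families for cycles rationally equivalent to zero (helper7 library) -/

section Image

variable {A B : Scheme.{u}} (f : A ⟶ B) [QuasiCompact f] [IsIntegral A]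

instance isReduced_image : IsReduced f.image := by
  haveI : ∀ i, IsReduced ((f.ker.subschemeCover.openCover).X i) := by
    intro V
    haveI : _root_.IsReduced (Γ(B, V.1) ⧸ f.ker.ideal V) :=
      isReduced_quot_of_eq_ker _ (f.app V.1).hom (Scheme.Hom.ker_apply f V)
    show IsReduced (Spec (CommRingCat.of (Γ(B, V.1) ⧸ f.ker.ideal V)))
    infer_instance
  exact IsReduced.of_openCover f.image (f.ker.subschemeCover.openCover)

theorem isGenericPoint_toImage :
    IsGenericPoint (f.toImage (genericPoint A)) (Set.univ : Set f.image) := by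
  have h1 := (genericPoint_spec A).image f.toImage.continuous
  rw [Set.image_univ, f.toImage.denseRange.closure_range] at h1
  exact h1

instance irreducibleSpace_image : IrreducibleSpace f.image where
  isPreirreducible_univ := by
    rw [← (isGenericPoint_toImage f).def]
    exact isIrreducible_singleton.closure.isPreirreducible
  toNonempty := ⟨f.toImage (genericPoint A)⟩

instance isIntegral_image : IsIntegral f.image :=
  isIntegral_of_irreducibleSpace_of_isReduced _

theorem toImage_genericPoint : f.toImage (genericPoint A) = genericPoint f.image :=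
  (isGenericPoint_toImage f).eq (genericPoint_spec f.image)

theorem imageι_genericPoint : f.imageι (genericPoint f.image) = f (genericPoint A) := by
  rw [← toImage_genericPoint, ← Scheme.Hom.comp_apply, Scheme.Hom.toImage_imageι]

end Image

section Delta

theorem exists_deltaCompat {P X : Scheme.{u}} (π : P ⟶ X) [LocallyOfFiniteType π] (δ : X → ℤ) :
    ∃ δP : P → ℤ, Cyc.DeltaCompat π δP δ := by
  have hfin : ∀ p : P, ∃ n : ℕ, trdegAt π p = n := by
    intro p
    have hst := LocallyOfFiniteType.stalkMap π p
    have h1 : ((P.residue p).hom.comp (π.stalkMap p).hom).EssFiniteType :=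
      hst.comp (RingHom.FiniteType.of_surjective _ (P.residue_surjective p)).essFiniteType
    have h2 : (P.residue p).hom.comp (π.stalkMap p).hom =
        (π.residueFieldMap p).hom.comp (X.residue (π p)).hom :=
      (congrArg CommRingCat.Hom.hom (Scheme.residue_residueFieldMap π p)).symm
    rw [h2] at h1
    have h3 : (π.residueFieldMap p).hom.EssFiniteType := RingHom.EssFiniteType.of_comp _ h1
    unfold trdegAt
    letI := (π.residueFieldMap p).hom.toAlgebra
    haveI : Algebra.EssFiniteType (X.residueField (π p)) (P.residueField p) := h3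
    exact Cardinal.lt_aleph0.mp (trdeg_lt_aleph0 _ _)
  choose n hn using hfin
  exact ⟨fun p => δ (π p) + n p, fun p => ⟨n p, hn p, rfl⟩⟩

theorem normGen_of_bijective {X Y : Scheme.{u}} (p : X ⟶ Y) (x : X)
    (hb : Function.Bijective (p.residueFieldMap x).hom) (c : Y.residueField (p x)) :
    Cyc.normGen p x ((p.residueFieldMap x).hom c) = c := by
  have h1 := residueDegree_eq_one_of_bijective p x hb
  unfold Scheme.Hom.residueDegree at h1
  unfold Cyc.normGen
  letI := (p.residueFieldMap x).hom.toAlgebra
  have h2 := Algebra.norm_algebraMap (R := Y.residueField (p x)) (S := X.residueField x) c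
  rw [h1, pow_one] at h2
  exact h2

theorem divFun_eval_congr {X : Scheme.{u}} (δ : X → ℤ) (U : X.Opens) (f : Γ(X, U)) (y η : X)
    (h : y = η) (hy : y ∈ U) (hη : η ∈ U) (x : X) :
    Cyc.divFun δ y ((X.residue y).hom ((X.presheaf.germ U y hy).hom f)) x =
      Cyc.divFun δ η (X.evaluation U η hη f) x := by
  subst h
  rfl

end Delta

section Graph

variable (X : Scheme.{u}) (U : X.Opens) (f : Γ(X, U))

theorem graph_piX : P1.graph X U f ≫ piX X = U.ι := pullback.lift_snd _ _ _

theorem graph_prX : P1.graph X U f ≫ prX X =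
    U.toSpecΓ ≫ Spec.map (CommRingCat.ofHom (P1.chartMap 0 Γ(X, U) f)) ≫ aι 0 :=
  pullback.lift_fst _ _ _

theorem chartMap_tau (B : Type u) [CommRing B] (b : B) : P1.chartMap 0 B b (tau 0) = b := by
  unfold P1.chartMap
  rw [RingHom.comp_apply, HomogeneousLocalization.algebraMap_apply]
  simp only [tau, Away.isLocalizationElem, Away.mk, HomogeneousLocalization.val_mk]
  rw [Localization.mk_eq_mk', IsLocalization.Away.lift, IsLocalization.lift_mk'_spec]
  simp [oth]

variable (η : X) (hη : η ∈ U)

/-- the test morphism to the open subscheme -/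
noncomputable abbrev mU : Spec (X.residueField η) ⟶ U.toScheme :=
  Spec.map (X.residue η) ≫ U.fromSpecStalkOfMem η hη

/-- the test morphism to the projective line -/
noncomputable abbrev gT : Spec (X.residueField η) ⟶ PX X := mU X U η hη ≫ P1.graph X U f

theorem mU_ι : mU X U η hη ≫ U.ι = X.fromSpecResidueField η := by
  rw [Category.assoc, Scheme.Opens.fromSpecStalkOfMem_ι]
  rfl

theorem gT_piX : gT X U f η hη ≫ piX X = X.fromSpecResidueField η := by
  rw [Category.assoc, graph_piX, mU_ι]

theorem gT_prX : gT X U f η hη ≫ prX X =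
    Spec.map (CommRingCat.ofHom (P1.chartMap 0 Γ(X, U) f) ≫ X.presheaf.germ U η hη ≫
      X.residue η) ≫ aι 0 := by
  have h1 : mU X U η hη ≫ U.toSpecΓ = Spec.map (X.presheaf.germ U η hη ≫ X.residue η) := by
    rw [Category.assoc, Scheme.Opens.fromSpecStalkOfMem_toSpecΓ, ← Spec.map_comp]
  rw [Category.assoc, graph_prX, ← Category.assoc, h1, ← Category.assoc, ← Spec.map_comp]

theorem desc_fromSpecResidueField (m : Spec (X.residueField η) ⟶ X)
    (hm : m = X.fromSpecResidueField η) :
    Function.Bijective (Scheme.descResidueField (K := X.residueField η)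
      (Scheme.stalkClosedPointTo m)).hom ∧
    ∀ (V : X.Opens) (hV : m (closedPoint (X.residueField η)) ∈ V) (hηV : η ∈ V) (s : Γ(X, V)),
      (Scheme.descResidueField (K := X.residueField η) (Scheme.stalkClosedPointTo m)).hom
        ((X.residue _).hom ((X.presheaf.germ V _ hV).hom s)) =
        (X.residue η).hom ((X.presheaf.germ V η hηV).hom s) := by
  subst hm
  have key : ∀ (V : X.Opens)
      (hV : (X.fromSpecResidueField η) (closedPoint (X.residueField η)) ∈ V) (hηV : η ∈ V)
      (s : Γ(X, V)),
      (Scheme.descResidueField (K := X.residueField η)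
        (Scheme.stalkClosedPointTo (X.fromSpecResidueField η))).hom
        ((X.residue _).hom ((X.presheaf.germ V _ hV).hom s)) =
        (X.residue η).hom ((X.presheaf.germ V η hηV).hom s) := by
    intro V hV hηV s
    have h1 := DFunLike.congr_fun (congrArg CommRingCat.Hom.hom
      (Scheme.residue_descResidueField (K := X.residueField η)
        (Scheme.stalkClosedPointTo (X.fromSpecResidueField η)))) ((X.presheaf.germ V _ hV).hom s)
    refine h1.trans ?_
    exact stalkClosedPointTo_germ_apply (X.residue η) V hV hηV s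
  refine ⟨⟨RingHom.injective _, ?_⟩, key⟩
  intro b
  obtain ⟨b', rfl⟩ := X.residue_surjective η b
  obtain ⟨V, hV, s, rfl⟩ := TopCat.Presheaf.exists_germ_eq X.presheaf b'
  exact ⟨_, key V (by rw [Scheme.fromSpecResidueField_apply]; exact hV) hV s⟩

/-- a point of the projective line given by a nonzero element of the residue field of a point
of the base: memberships, residue fields, and the value of the coordinate -/
theorem test_point (g : Spec (X.residueField η) ⟶ PX X)
    (hgπ : g ≫ piX X = X.fromSpecResidueField η)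
    (φ : CommRingCat.of (AA.{u} 0) ⟶ X.residueField η) (hφ : g ≫ prX X = Spec.map φ ≫ aι 0)
    (hφv : φ.hom (tau 0) = (X.residue η).hom ((X.presheaf.germ U η hη).hom f))
    (hu : φ.hom (tau 0) ≠ 0)
    (ξ : ↥(PX X)) (hξ : ξ = g (closedPoint (X.residueField η))) :
    ξ ∈ VV X 0 ∧ ξ ∈ VV X 1 ∧ piX X ξ = η ∧
      Function.Bijective ((piX X).residueFieldMap ξ).hom ∧
      ∀ (h0 : ξ ∈ VV X 0) (hU : piX X ξ ∈ U),
        gg X ξ 0 h0 = ((piX X).residueFieldMap ξ).hom
          ((X.residue (piX X ξ)).hom ((X.presheaf.germ U (piX X ξ) hU).hom f)) := by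
  subst hξ
  have hm0 : g (closedPoint (X.residueField η)) ∈ VV X 0 := by
    show (g ≫ prX X) (closedPoint (X.residueField η)) ∈ BB 0
    rw [hφ, ← opensRange_aι]
    exact ⟨_, rfl⟩
  have fv := factor_value X 0 g hm0 φ hφ
  have hm1 : g (closedPoint (X.residueField η)) ∈ VV X 1 :=
    mem_VV_oth_of_isUnit X 0 g hm0 (by
      rw [← fv]
      exact isUnit_iff_ne_zero.mpr hu)
  have hπ : piX X (g (closedPoint (X.residueField η))) = η := by
    show (g ≫ piX X) (closedPoint (X.residueField η)) = η
    rw [hgπ]
    exact Scheme.fromSpecResidueField_apply η _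
  have hcomp := Scheme.descResidueField_stalkClosedPointTo_comp (K := X.residueField η)
    (f := piX X) g
  obtain ⟨hE1, hE2⟩ := desc_fromSpecResidueField X η (g ≫ piX X) hgπ
  have hcomp' : ∀ a : X.residueField (piX X (g (closedPoint (X.residueField η)))),
      (Scheme.descResidueField (K := X.residueField η)
        (Scheme.stalkClosedPointTo (g ≫ piX X))).hom a =
      (Scheme.descResidueField (K := X.residueField η) (Scheme.stalkClosedPointTo g)).hom
        (((piX X).residueFieldMap (g (closedPoint (X.residueField η)))).hom a) :=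
    fun a => DFunLike.congr_fun (congrArg CommRingCat.Hom.hom hcomp) a
  have hdinj : Function.Injective (Scheme.descResidueField (K := X.residueField η)
      (Scheme.stalkClosedPointTo g)).hom := RingHom.injective _
  have hb : Function.Bijective ((piX X).residueFieldMap
      (g (closedPoint (X.residueField η)))).hom := by
    refine ⟨RingHom.injective _, ?_⟩
    intro b
    obtain ⟨c, hc⟩ := hE1.2 ((Scheme.descResidueField (K := X.residueField η)
      (Scheme.stalkClosedPointTo g)).hom b)
    exact ⟨c, hdinj ((hcomp' c).symm.trans hc)⟩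
  refine ⟨hm0, hm1, hπ, hb, ?_⟩
  intro h0 hU
  apply hdinj
  have e2 := (hcomp' _).symm.trans (hE2 U hU hη f)
  have e1 : (Scheme.descResidueField (K := X.residueField η)
      (Scheme.stalkClosedPointTo g)).hom
      (gg X (g (closedPoint (X.residueField η))) 0 h0) =
      (X.residue η).hom ((X.presheaf.germ U η hη).hom f) := by
    have h1 := DFunLike.congr_fun (congrArg CommRingCat.Hom.hom
      (Scheme.residue_descResidueField (K := X.residueField η)
        (Scheme.stalkClosedPointTo g)))
      (((PX X).presheaf.germ (VV X 0) _ h0).hom (tt X 0))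
    refine h1.trans ?_
    exact fv.symm.trans hφv
  exact e1.trans e2.symm

/-- the difference of the fibres of an integral closed subscheme whose generic point is a
rational point over a point of the base with coordinate a given function -/
theorem fibres_of_test_point (δ : X → ℤ) (hX : Cyc.IsSetup X δ) (δP : ↥(PX X) → ℤ)
    (hP : Cyc.DeltaCompat (piX X) δP δ)
    (g : Spec (X.residueField η) ⟶ PX X)
    (hgπ : g ≫ piX X = X.fromSpecResidueField η)
    (φ : CommRingCat.of (AA.{u} 0) ⟶ X.residueField η) (hφ : g ≫ prX X = Spec.map φ ≫ aι 0)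
    (hφv : φ.hom (tau 0) = (X.residue η).hom ((X.presheaf.germ U η hη).hom f))
    (hu : φ.hom (tau 0) ≠ 0) (k : ℤ) (hk : δ η = k + 1)
    (W : Scheme.{u}) [IsIntegral W] (ι : W ⟶ PX X) [IsClosedImmersion ι]
    (hgen : ι (genericPoint W) = g (closedPoint (X.residueField η))) (x : X) :
    δP (ι (genericPoint W)) = k + 1 ∧ ι (genericPoint W) ∈ VV X 0 ∧ ι (genericPoint W) ∈ VV X 1 ∧
    Cyc.subschemeFun δ k (pullback.snd ι (P1.sect X 0)) x -
        Cyc.subschemeFun δ k (pullback.snd ι (P1.sect X 1)) x =
      Cyc.divFun δ η (X.evaluation U η hη f) x := by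
  have hPS := isSetup_of_locallyOfFiniteType (piX X) δ hX δP hP
  obtain ⟨h0ξ, h1ξ, hπ, hb, hgg⟩ := test_point X U f η hη g hgπ φ hφ hφv hu _ hgen
  have hd : δP (ι (genericPoint W)) = δ (piX X (ι (genericPoint W))) := by
    obtain ⟨m, hm, hδm⟩ := hP (ι (genericPoint W))
    have h3 : trdegAt (piX X) (ι (genericPoint W)) = m := hm
    rw [trdegAt_eq_zero_of_bijective _ _ hb] at h3
    have hm0 : m = 0 := by exact_mod_cast h3.symm
    rw [hδm, hm0]
    simp
  have hW : δP (ι (genericPoint W)) = k + 1 := by
    rw [hd, hπ, hk]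
  have hmul := gg_mul X _ h0ξ h1ξ
  have hg0 : gg X _ 0 h0ξ ≠ 0 := left_ne_zero_of_mul_eq_one hmul
  have hUπ : piX X (ι (genericPoint W)) ∈ U := by
    rw [hπ]
    exact hη
  refine ⟨hW, h0ξ, h1ξ, ?_⟩
  rw [main_identity X δ δP hX hP k W ι hW h0ξ h1ξ x,
    key δP δ hPS hX (piX X) hP _ _ hg0 x, if_pos hd, hgg h0ξ hUπ, normGen_of_bijective _ _ hb]
  exact divFun_eval_congr δ U f _ _ hπ hUπ hη x

/-- the divisor of an invertible function on an open of an integral scheme is the difference
of the fibres over zero and infinity of the closure of its graph -/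
theorem main_graph [IsIntegral X] (δ : X → ℤ) (hX : Cyc.IsSetup X δ) (n : ℤ)
    (hn : δ (genericPoint X) = n) (hηg : genericPoint X ∈ U) (hf : IsUnit f) :
    Cyc.divFun δ (genericPoint X) (X.evaluation U (genericPoint X) hηg f) =
      fun x => Cyc.subschemeFun δ (n - 1)
          (pullback.snd (P1.graphClosureι X U f) (P1.sect X 0)) x -
        Cyc.subschemeFun δ (n - 1) (pullback.snd (P1.graphClosureι X U f) (P1.sect X 1)) x := by
  haveI := hX.1
  haveI : Nonempty U := ⟨⟨_, hηg⟩⟩
  haveI : QuasiCompact (P1.graph X U f) := by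
    haveI : QuasiCompact (P1.graph X U f ≫ piX X) := by
      rw [graph_piX]
      infer_instance
    exact QuasiCompact.of_comp (P1.graph X U f) (piX X)
  haveI : IsClosedImmersion (P1.graphClosureι X U f) := by
    unfold P1.graphClosureι
    infer_instance
  obtain ⟨δP, hP⟩ := exists_deltaCompat (piX X) δ
  have hPS := isSetup_of_locallyOfFiniteType (piX X) δ hX δP hP
  have hηU : genericPoint U = mU X U (genericPoint X) hηg
      (closedPoint (X.residueField (genericPoint X))) := by
    apply U.ι.isOpenEmbedding.injective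
    rw [genericPoint_eq_of_isOpenImmersion U.ι]
    show _ = (mU X U (genericPoint X) hηg ≫ U.ι) _
    rw [mU_ι]
    exact (Scheme.fromSpecResidueField_apply _ _).symm
  have hgen : P1.graphClosureι X U f (genericPoint (P1.graph X U f).image) =
      gT X U f (genericPoint X) hηg (closedPoint (X.residueField (genericPoint X))) := by
    have h1 := imageι_genericPoint (P1.graph X U f)
    rw [hηU] at h1
    exact h1
  have hφv : (CommRingCat.ofHom (P1.chartMap 0 Γ(X, U) f) ≫ X.presheaf.germ U (genericPoint X) hηg ≫
      X.residue (genericPoint X)).hom (tau 0) =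
      (X.residue (genericPoint X)).hom ((X.presheaf.germ U (genericPoint X) hηg).hom f) := by
    show (X.residue (genericPoint X)).hom ((X.presheaf.germ U (genericPoint X) hηg).hom
      (P1.chartMap 0 Γ(X, U) f (tau 0))) = _
    rw [chartMap_tau]
  have hu : (CommRingCat.ofHom (P1.chartMap 0 Γ(X, U) f) ≫ X.presheaf.germ U (genericPoint X) hηg ≫
      X.residue (genericPoint X)).hom (tau 0) ≠ 0 := by
    rw [hφv]
    exact ((hf.map _).map _).ne_zero
  funext x
  have hk : δ (genericPoint X) = (n - 1) + 1 := by
    rw [hn]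
    ring
  obtain ⟨-, -, -, h⟩ := fibres_of_test_point X U f (genericPoint X) hηg δ hX δP hP
    (gT X U f (genericPoint X) hηg) (gT_piX X U f (genericPoint X) hηg) _
    (gT_prX X U f (genericPoint X) hηg) hφv hu (n - 1) hk _ (P1.graphClosureι X U f) hgen x
  exact h.symm

end Graph

section Family

variable (X : Scheme.{u})

/-- the point of the projective line over a point of the base with a given coordinate -/
noncomputable def gPt (η : X) (c : X.residueField η) : Spec (X.residueField η) ⟶ PX X :=
  pullback.lift (Spec.map (CommRingCat.ofHom (P1.chartMap 0 (X.residueField η) c)) ≫ aι 0)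
    (X.fromSpecResidueField η) (specULiftZIsTerminal.hom_ext _ _)

theorem gPt_piX (η : X) (c : X.residueField η) : gPt X η c ≫ piX X = X.fromSpecResidueField η :=
  pullback.lift_snd _ _ _

theorem gPt_prX (η : X) (c : X.residueField η) : gPt X η c ≫ prX X =
    Spec.map (CommRingCat.ofHom (P1.chartMap 0 (X.residueField η) c)) ≫ aι 0 :=
  pullback.lift_fst _ _ _

theorem exists_section_eval (η : X) (c : X.residueField η) :
    ∃ (U : X.Opens) (hη : η ∈ U) (f : Γ(X, U)),
      (X.residue η).hom ((X.presheaf.germ U η hη).hom f) = c := by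
  obtain ⟨b', rfl⟩ := X.residue_surjective η c
  obtain ⟨V, hV, s, rfl⟩ := TopCat.Presheaf.exists_germ_eq X.presheaf b'
  exact ⟨V, hV, s, rfl⟩

/-- a principal divisor is the difference of the fibres over zero and infinity of an integral
closed subscheme of the projective line -/
theorem exists_subscheme_of_divFun (δ : X → ℤ) (hX : Cyc.IsSetup X δ) (δP : ↥(PX X) → ℤ)
    (hP : Cyc.DeltaCompat (piX X) δP δ) (k : ℤ) (η : X) (hk : δ η = k + 1)
    (c : X.residueField η) (hc : c ≠ 0) :
    ∃ (W : Scheme.{u}) (ι : W ⟶ PX X) (_ : IsIntegral W) (_ : IsClosedImmersion ι),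
      δP (ι (genericPoint W)) = k + 1 ∧ ι (genericPoint W) ∉ Set.range ⇑(P1.sect X 0) ∧
      ι (genericPoint W) ∉ Set.range ⇑(P1.sect X 1) ∧ piX X (ι (genericPoint W)) = η ∧
      ∀ x : X, Cyc.subschemeFun δ k (pullback.snd ι (P1.sect X 0)) x -
        Cyc.subschemeFun δ k (pullback.snd ι (P1.sect X 1)) x = Cyc.divFun δ η c x := by
  obtain ⟨U, hη, f, hf⟩ := exists_section_eval X η c
  have hφv : (CommRingCat.ofHom (P1.chartMap 0 (X.residueField η) c)).hom (tau 0) =
      (X.residue η).hom ((X.presheaf.germ U η hη).hom f) := by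
    show P1.chartMap 0 (X.residueField η) c (tau 0) = _
    rw [chartMap_tau, hf]
  have hu : (CommRingCat.ofHom (P1.chartMap 0 (X.residueField η) c)).hom (tau 0) ≠ 0 := by
    rw [hφv, hf]
    exact hc
  refine ⟨WW (gPt X η c (closedPoint (X.residueField η))),
    iW (gPt X η c (closedPoint (X.residueField η))), inferInstance, inferInstance, ?_⟩
  have hgen := iW_generic (gPt X η c (closedPoint (X.residueField η)))
  have hall := fun x => fibres_of_test_point X U f η hη δ hX δP hP (gPt X η c) (gPt_piX X η c) _
    (gPt_prX X η c) hφv hu k hk _ (iW (gPt X η c (closedPoint (X.residueField η)))) hgen x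
  obtain ⟨hW, h0, h1, -⟩ := hall η
  refine ⟨hW, ?_, ?_, ?_, ?_⟩
  · rintro ⟨x, hx⟩
    exact sect_not_mem X 0 x (hx ▸ h1)
  · rintro ⟨x, hx⟩
    exact sect_not_mem X 1 x (hx ▸ h0)
  · rw [hgen]
    show (gPt X η c ≫ piX X) (closedPoint (X.residueField η)) = η
    rw [gPt_piX]
    exact Scheme.fromSpecResidueField_apply η _
  · intro x
    rw [(hall x).2.2.2]
    have e : (X.evaluation U η hη) f = c := hf
    rw [e]

/-- a cycle rationally equivalent to zero is a locally finite sum of differences of fibres of
integral closed subschemes of the projective line -/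
theorem exists_family (δ : X → ℤ) (hX : Cyc.IsSetup X δ) (δP : ↥(PX X) → ℤ)
    (hP : Cyc.DeltaCompat (piX X) δP δ) (k : ℤ) (α : AlgebraicCycle X ℤ)
    (h0 : Cyc.RatEquivZero δ k α) :
    ∃ (I : Type u) (W : I → Scheme.{u}) (ι : (i : I) → (W i ⟶ PX X))
      (_ : ∀ i, IsIntegral (W i)) (_ : ∀ i, IsClosedImmersion (ι i)),
      (∀ i, δP (ι i (genericPoint (W i))) = k + 1 ∧
        ι i (genericPoint (W i)) ∉ Set.range ⇑(P1.sect X 0) ∧
        ι i (genericPoint (W i)) ∉ Set.range ⇑(P1.sect X 1)) ∧
      (∀ p : ↥(PX X), ∃ U : Set ↥(PX X), IsOpen U ∧ p ∈ U ∧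
        {i | (Set.range ⇑(ι i) ∩ U).Nonempty}.Finite) ∧
      ∀ x : X, α x = ∑ᶠ i, (Cyc.subschemeFun δ k (pullback.snd (ι i) (P1.sect X 0)) x -
        Cyc.subschemeFun δ k (pullback.snd (ι i) (P1.sect X 1)) x) := by
  obtain ⟨I, ξ, f, hδ, hf, hlf, hsum⟩ := h0
  choose W ι hint hcl hW hn0 hn1 hπ hdiv using fun i =>
    exists_subscheme_of_divFun X δ hX δP hP k (ξ i) (hδ i) (f i) (hf i)
  refine ⟨I, W, ι, hint, hcl, fun i => ⟨hW i, hn0 i, hn1 i⟩, ?_, ?_⟩
  · intro p
    obtain ⟨V, hVo, hpV, hfin⟩ := hlf (piX X p)
    refine ⟨piX X ⁻¹' V, hVo.preimage (piX X).continuous, hpV, hfin.subset ?_⟩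
    rintro i ⟨_, ⟨w, rfl⟩, hw⟩
    haveI := hint i
    refine ⟨piX X (ι i w), ?_, hw⟩
    have hsp : genericPoint (W i) ⤳ w := genericPoint_specializes w
    have hsp2 : piX X (ι i (genericPoint (W i))) ⤳ piX X (ι i w) :=
      (hsp.map (ι i).continuous).map (piX X).continuous
    rw [hπ i] at hsp2
    exact specializes_iff_mem_closure.mp hsp2
  · intro x
    rw [hsum x]
    exact finsum_congr (fun i => (hdiv i x).symm)

end Family

end Groth.Agent.Helper7.P1Rat
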