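import Mathlib
import Groth.Prelude.Def_Cyc
import Groth.Prelude.Def_P1
import Groth.Agent.Lib.Helper7.P1Rat.Main
import Groth.Agent.Lib.Helper7.PushRat.Main

set_option linter.style.haveILetI false
set_option linter.unusedVariables false
set_option linter.unusedSectionVars false
set_option autoImplicit false
set_option backward.isDefEq.respectTransparency.types false
set_option synthInstance.maxHeartbeats 400000
set_option maxHeartbeats 1600000

namespace Groth.Agent.Helper7.P1Rat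

open CategoryTheory CategoryTheory.Limits AlgebraicGeometry TopologicalSpace Opposite IsLocalRing
open Groth.Agent.Helper7.DivFin Groth.Agent.Helper7.FinDeg Groth.Agent.Helper7.FinPush
open Groth.Agent.Helper7.KL Groth.Agent.Helper7.PDeg Groth.Agent.Helper7.GFib
open Groth.Agent.Helper7.PushRat Groth.Agent.Lead.SecOrd

universe u

/-! helper7: Weighted sums of differences of orders of the coordinate at the two sections of the projective line are rationally equivalent to zero (helper7 library) -/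

section Mult

variable (X : Scheme.{u}) (δ : X → ℤ) (δP : ↥(PX X) → ℤ)

/-- the difference of the orders of the coordinate at the two sections is the pushforward of
its divisor -/
theorem sections_identity (hP : Cyc.DeltaCompat (piX X) δP δ) (ξ : ↥(PX X))
    (h0ξ : ξ ∈ VV X 0) (h1ξ : ξ ∈ VV X 1) (x : X) :
    Cyc.divFun δP ξ (gg X ξ 0 h0ξ) (P1.sect X 0 x) -
        Cyc.divFun δP ξ (gg X ξ 1 h1ξ) (P1.sect X 1 x) =
      ∑ᶠ p ∈ piX X ⁻¹' {x}, Cyc.divFun δP ξ (gg X ξ 0 h0ξ) p *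
          ((AlgebraicCycle.mapCoeff (piX X) δP δ p : ℕ) : ℤ) := by
  have hmul := gg_mul X ξ h0ξ h1ξ
  have hg0 : gg X ξ 0 h0ξ ≠ 0 := left_ne_zero_of_mul_eq_one hmul
  have hinv : gg X ξ 1 h1ξ = (gg X ξ 0 h0ξ)⁻¹ := eq_inv_of_mul_eq_one_right hmul
  rw [hinv, divFun_inv δP ξ _ hg0]
  have hsupp : (piX X ⁻¹' {x}) ∩ Function.support (fun p => Cyc.divFun δP ξ
        (gg X ξ 0 h0ξ) p * ((AlgebraicCycle.mapCoeff (piX X) δP δ p : ℕ) : ℤ)) =
      ({P1.sect X 0 x, P1.sect X 1 x} : Set ↥(PX X)) ∩ Function.support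
        (fun p => Cyc.divFun δP ξ (gg X ξ 0 h0ξ) p *
          ((AlgebraicCycle.mapCoeff (piX X) δP δ p : ℕ) : ℤ)) := by
    ext p
    constructor
    · rintro ⟨hp, hFp⟩
      refine ⟨?_, hFp⟩
      by_contra hc
      rw [Set.mem_insert_iff, Set.mem_singleton_iff, not_or] at hc
      have hpx : piX X p = x := hp
      have hp1 : p ∈ VV X 1 := by
        apply mem_VV_of_notMem_range X 0 p
        rintro ⟨x', rfl⟩
        apply hc.1
        rw [piX_sect_apply] at hpx
        rw [hpx]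
      have hp0 : p ∈ VV X 0 := by
        apply mem_VV_of_notMem_range X 1 p
        rintro ⟨x', rfl⟩
        apply hc.2
        rw [piX_sect_apply] at hpx
        rw [hpx]
      apply hFp
      show Cyc.divFun δP _ _ p * _ = 0
      rw [divFun_eq_zero_of_mem_inter X δP _ p h0ξ hp0 hp1, zero_mul]
    · rintro ⟨hp, hFp⟩
      refine ⟨?_, hFp⟩
      rw [Set.mem_insert_iff, Set.mem_singleton_iff] at hp
      rcases hp with rfl | rfl
      · exact piX_sect_apply X 0 x
      · exact piX_sect_apply X 1 x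
  rw [finsum_mem_inter_support_eq _ _ _ hsupp, finsum_mem_pair (sect_zero_ne_sect_one X x),
    mapCoeff_sect X δ δP hP 0 x, mapCoeff_sect X δ δP hP 1 x]
  push_cast
  ring

theorem divFun_pow {Y : Scheme.{u}} (δY : Y → ℤ) (ξ : Y) (f : Y.residueField ξ) (hf : f ≠ 0)
    (n : ℕ) (y : Y) : Cyc.divFun δY ξ (f ^ n) y = n * Cyc.divFun δY ξ f y := by
  unfold Cyc.divFun
  by_cases hc : ξ ⤳ y ∧ δY y + 1 = δY ξ
  · rw [dif_pos hc, dif_pos hc]
    unfold Cyc.ordAt
    induction n with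
    | zero =>
      have h1 := ordFrac_mul (Cyc.LocQuot y ξ hc.1) (Y.residueField ξ)
        (one_ne_zero (α := Y.residueField ξ)) (one_ne_zero (α := Y.residueField ξ))
      rw [one_mul] at h1
      simp only [pow_zero, Nat.cast_zero, zero_mul]
      linarith
    | succ n ih =>
      rw [pow_succ, ordFrac_mul (Cyc.LocQuot y ξ hc.1) (Y.residueField ξ) (pow_ne_zero n hf) hf,
        ih]
      push_cast
      ring
  · rw [dif_neg hc, dif_neg hc, mul_zero]

/-- a weighted locally finite sum of differences of orders of the coordinate at the two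
sections is rationally equivalent to zero -/
theorem core_ratEquiv (hX : Cyc.IsSetup X δ) (hP : Cyc.DeltaCompat (piX X) δP δ) (k : ℤ)
    {I : Type u} (ξ : I → ↥(PX X)) (m : I → ℕ)
    (hδ : ∀ i, δP (ξ i) = k + 1) (h0 : ∀ i, ξ i ∈ VV X 0) (h1 : ∀ i, ξ i ∈ VV X 1)
    (hlf : ∀ x : X, ∃ U : Set X, IsOpen U ∧ x ∈ U ∧
      {i | (closure {piX X (ξ i)} ∩ U).Nonempty}.Finite)
    (α β : AlgebraicCycle X ℤ)
    (hα : ∀ x, α x = ∑ᶠ i, (m i : ℤ) *
      Cyc.divFun δP (ξ i) (gg X (ξ i) 0 (h0 i)) (P1.sect X 0 x))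
    (hβ : ∀ x, β x = ∑ᶠ i, (m i : ℤ) *
      Cyc.divFun δP (ξ i) (gg X (ξ i) 1 (h1 i)) (P1.sect X 1 x)) :
    Cyc.RatEquiv δ k α β := by
  have hPS : Cyc.IsSetup (PX X) δP := isSetup_of_locallyOfFiniteType (piX X) δ hX δP hP
  have hg0 : ∀ i, gg X (ξ i) 0 (h0 i) ≠ 0 := fun i =>
    left_ne_zero_of_mul_eq_one (gg_mul X (ξ i) (h0 i) (h1 i))
  have hfin : ∀ (e : Fin (1 + 1)) (he : ∀ i, ξ i ∈ VV X e) (x : X),
      (Function.support (fun i => (m i : ℤ) *
        Cyc.divFun δP (ξ i) (gg X (ξ i) e (he i)) (P1.sect X e x))).Finite := by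
    intro e he x
    obtain ⟨U, hUo, hxU, hUfin⟩ := hlf x
    refine hUfin.subset ?_
    intro i hi
    rw [Function.mem_support] at hi
    have hne : Cyc.divFun δP (ξ i) (gg X (ξ i) e (he i)) (P1.sect X e x) ≠ 0 :=
      fun h0' => hi (by rw [h0', mul_zero])
    have hsp := divFun_ne_zero_specializes δP _ _ _ hne
    have hsp2 : piX X (ξ i) ⤳ piX X (P1.sect X e x) := hsp.map (piX X).continuous
    rw [piX_sect_apply] at hsp2
    exact ⟨x, specializes_iff_mem_closure.mp hsp2, hxU⟩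
  have hkey : ∀ i x, Cyc.divFun δP (ξ i) (gg X (ξ i) 0 (h0 i)) (P1.sect X 0 x) -
      Cyc.divFun δP (ξ i) (gg X (ξ i) 1 (h1 i)) (P1.sect X 1 x) =
      if δP (ξ i) = δ (piX X (ξ i)) then Cyc.divFun δ (piX X (ξ i))
        (Cyc.normGen (piX X) (ξ i) (gg X (ξ i) 0 (h0 i))) x else 0 := by
    intro i x
    rw [sections_identity X δ δP hP (ξ i) (h0 i) (h1 i) x]
    exact key δP δ hPS hX (piX X) hP (ξ i) _ (hg0 i) x
  have hMI : ∀ x, (α - β) x = ∑ᶠ i, (m i : ℤ) *
      (if δP (ξ i) = δ (piX X (ξ i)) then Cyc.divFun δ (piX X (ξ i))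
        (Cyc.normGen (piX X) (ξ i) (gg X (ξ i) 0 (h0 i))) x else 0) := by
    intro x
    rw [Function.locallyFinsuppWithin.coe_sub, Pi.sub_apply, hα x, hβ x,
      ← finsum_sub_distrib (hfin 0 h0 x) (hfin 1 h1 x)]
    refine finsum_congr (fun i => ?_)
    rw [← mul_sub, hkey i x]
  unfold Cyc.RatEquiv Cyc.RatEquivZero
  refine ⟨{i : I // δP (ξ i) = δ (piX X (ξ i))}, fun j => piX X (ξ j.1),
    fun j => (Cyc.normGen (piX X) (ξ j.1) (gg X (ξ j.1) 0 (h0 j.1))) ^ (m j.1), ?_, ?_, ?_, ?_⟩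
  · intro j
    rw [← j.2]
    exact hδ j.1
  · intro j
    exact pow_ne_zero _ (normGen_ne_zero _ _ _ (hg0 j.1))
  · intro x
    obtain ⟨U, hUo, hxU, hUfin⟩ := hlf x
    refine ⟨U, hUo, hxU, ?_⟩
    exact (hUfin.preimage (Subtype.val_injective.injOn)).subset (fun j hj => hj)
  · intro x
    rw [hMI x]
    have e1 : ∀ i, (m i : ℤ) *
        (if δP (ξ i) = δ (piX X (ξ i)) then Cyc.divFun δ (piX X (ξ i))
          (Cyc.normGen (piX X) (ξ i) (gg X (ξ i) 0 (h0 i))) x else 0) =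
        ∑ᶠ (_ : δP (ξ i) = δ (piX X (ξ i))), (m i : ℤ) * Cyc.divFun δ (piX X (ξ i))
          (Cyc.normGen (piX X) (ξ i) (gg X (ξ i) 0 (h0 i))) x := by
      intro i
      rw [finsum_eq_if]
      split_ifs
      · rfl
      · rw [mul_zero]
    have e2 := finsum_subtype_eq_finsum_cond (f := fun i => (m i : ℤ) * Cyc.divFun δ (piX X (ξ i))
        (Cyc.normGen (piX X) (ξ i) (gg X (ξ i) 0 (h0 i))) x)
      (fun i => δP (ξ i) = δ (piX X (ξ i)))
    rw [finsum_congr e1, ← e2]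
    refine finsum_congr (fun j => ?_)
    rw [divFun_pow δ _ _ (normGen_ne_zero _ _ _ (hg0 j.1)) (m j.1) x]

end Mult

end Groth.Agent.Helper7.P1Rat
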