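import Mathlib
import Groth.Prelude.Def_Cyc
import Groth.Prelude.Def_P1
import Groth.Agent.Lib.Helper7.P1Rat.Mult
import Groth.Agent.Lib.Helper7.KL.ZeroSec
import Groth.Agent.Lib.Helper7.KL.ZeroPush

set_option linter.style.haveILetI false
set_option linter.unusedVariables false
set_option linter.unusedSectionVars false
set_option autoImplicit false
set_option backward.isDefEq.respectTransparency.types false
set_option synthInstance.maxHeartbeats 400000
set_option maxHeartbeats 1600000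

namespace Groth.Agent.Helper7.P1Rat

open CategoryTheory CategoryTheory.Limits AlgebraicGeometry TopologicalSpace Opposite IsLocalRing
open Groth.Agent.Helper7.DivFin Groth.Agent.Helper7.FinDeg Groth.Agent.Helper7.FinPush
open Groth.Agent.Helper7.KL Groth.Agent.Helper7.PDeg Groth.Agent.Helper7.GFib
open Groth.Agent.Helper7.PushRat Groth.Agent.Lead.SecOrd Groth.Agent.Helper7.Spz

universe u

/-! helper7: Fibres over zero and infinity of a closed subscheme of the projective line: local sums of orders via the length formula, local finiteness, rational equivalence (helper7 library) -/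

section ZSub

variable (X : Scheme.{u}) (δ : X → ℤ) (δP : ↥(PX X) → ℤ) (k : ℤ)
  (Z : Scheme.{u}) (ι : Z ⟶ PX X)

theorem mem_union_range (i : Fin (1 + 1)) (p : ↥(PX X)) (hp : p ∈ Set.range ⇑(P1.sect X i)) :
    p ∈ Set.range ⇑(P1.sect X 0) ∪ Set.range ⇑(P1.sect X 1) := by
  fin_cases i
  · exact Or.inl hp
  · exact Or.inr hp

theorem mem_VV_of_top
    (hZ0 : ∀ z : Z, ι z ∈ Set.range ⇑(P1.sect X 0) ∪ Set.range ⇑(P1.sect X 1) → δP (ι z) ≤ k)
    (ζ : Z) (hζ : δP (ι ζ) = k + 1) (e : Fin (1 + 1)) : ι ζ ∈ VV X e := by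
  have h := mem_VV_of_notMem_range X (oth e) (ι ζ) (fun hr => by
    have := hZ0 ζ (mem_union_range X (oth e) _ hr)
    omega)
  rw [oth_oth] at h
  exact h

variable [IsClosedImmersion ι]

/-- the value of the coordinate function of the ambient projective line at a point of the
closed subscheme, seen on the closed subscheme -/
theorem residueFieldMap_gg (e : Fin (1 + 1)) (w ξ : Z) (h : ξ ⤳ w) (hwV : ι w ∈ VV X e)
    (hξV : ι ξ ∈ VV X e) :
    (ι.residueFieldMap ξ).hom (gg X (ι ξ) e hξV) =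
      Cyc.specMap w ξ h ((Z.presheaf.germ (ι ⁻¹ᵁ VV X e) w hwV).hom
        ((ι.app (VV X e)).hom (tt X e))) := by
  rw [specMap_germ w ξ h (ι ⁻¹ᵁ VV X e) hwV]
  unfold gg
  have h1 := DFunLike.congr_fun (congrArg CommRingCat.Hom.hom
    (Scheme.residue_residueFieldMap ι ξ))
    (((PX X).presheaf.germ (VV X e) (ι ξ) hξV).hom (tt X e))
  refine h1.trans ?_
  show (Z.residue ξ).hom ((ι.stalkMap ξ).hom
    (((PX X).presheaf.germ (VV X e) (ι ξ) hξV).hom (tt X e))) = _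
  rw [Scheme.Hom.germ_stalkMap_apply]

/-- the length of the local ring of the fibre of a closed subscheme over a section, as a
weighted sum of orders of the coordinate over the top dimensional points -/
theorem local_sum (hX : Cyc.IsSetup X δ) (hP : Cyc.DeltaCompat (piX X) δP δ)
    (hZ : ∀ z : Z, δP (ι z) ≤ k + 1)
    (hZ0 : ∀ z : Z, ι z ∈ Set.range ⇑(P1.sect X 0) ∪ Set.range ⇑(P1.sect X 1) → δP (ι z) ≤ k)
    (hemb : ∀ z : Z, IsAssociatedPrime (IsLocalRing.maximalIdeal (Z.presheaf.stalk z))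
      (Z.presheaf.stalk z) → ι z ∉ Set.range ⇑(P1.sect X 0) ∪ Set.range ⇑(P1.sect X 1) ∨
        δP (ι z) < k)
    (e : Fin (1 + 1)) (x : X) (hk : δ x = k) (w : Z) (hw : ι w = P1.sect X e x)
    (hwV : ι w ∈ VV X e) :
    ((Module.length (Z.presheaf.stalk w) (Z.presheaf.stalk w ⧸ Ideal.span
      {(Z.presheaf.germ (ι ⁻¹ᵁ VV X e) w hwV).hom ((ι.app (VV X e)).hom (tt X e))})).toNat : ℤ) =
      ∑ᶠ ζ : {ζ : Z // δP (ι ζ) = k + 1},
        ((Module.length (Z.presheaf.stalk ζ.1) (Z.presheaf.stalk ζ.1)).toNat : ℤ) *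
          Cyc.divFun δP (ι ζ.1) (gg X (ι ζ.1) e (mem_VV_of_top X δP k Z ι hZ0 ζ.1 ζ.2 e))
            (ι w) := by
  have hPS : Cyc.IsSetup (PX X) δP := isSetup_of_locallyOfFiniteType (piX X) δ hX δP hP
  haveI := hPS.1
  haveI : IsLocallyNoetherian Z := (isSetup_closedImmersion ι δP hPS).1
  have hδZ : Cyc.IsDimFun Z (fun z => δP (ι z)) := isDimFun_closedImmersion ι δP hPS.2.2
  have hδw : δP (ι w) = k := by rw [hw, deltaP_sect X δ δP hP e x, hk]
  have htop : ∀ (ξ : Z), ξ ⤳ w → ξ ≠ w → δP (ι ξ) = k + 1 := by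
    intro ξ h hne
    have h1 := (hδZ ξ w h hne).1
    have h2 := hZ ξ
    have h1' : δP (ι w) < δP (ι ξ) := h1
    omega
  have hr : ∀ (ξ : Z) (h : ξ ⤳ w), ξ ≠ w → Cyc.specMap w ξ h
      ((Z.presheaf.germ (ι ⁻¹ᵁ VV X e) w hwV).hom ((ι.app (VV X e)).hom (tt X e))) ≠ 0 := by
    intro ξ h hne
    have hξtop := htop ξ h hne
    have hm0 := mem_VV_of_top X δP k Z ι hZ0 ξ hξtop 0
    have hm1 := mem_VV_of_top X δP k Z ι hZ0 ξ hξtop 1
    have hme := mem_VV_of_top X δP k Z ι hZ0 ξ hξtop e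
    rw [← residueFieldMap_gg X Z ι e w ξ h hwV hme]
    have hgne : gg X (ι ξ) e hme ≠ 0 := by
      have hmul := gg_mul X (ι ξ) hm0 hm1
      fin_cases e
      · exact left_ne_zero_of_mul_eq_one hmul
      · exact right_ne_zero_of_mul_eq_one hmul
    exact (map_ne_zero_iff _ (RingHom.injective _)).mpr hgne
  have hmax : ∀ (q : Ideal (Z.presheaf.stalk w)), q.IsPrime →
      (Z.presheaf.germ (ι ⁻¹ᵁ VV X e) w hwV).hom ((ι.app (VV X e)).hom (tt X e)) ∈ q →
      q = maximalIdeal (Z.presheaf.stalk w) := by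
    intro q hq hmem
    obtain ⟨ξ, h, hker⟩ := exists_point_of_prime w q
    by_cases hne : ξ = w
    · rw [← hker]
      exact (ker_specMap_eq_max_iff w ξ h).2 hne
    · exfalso
      apply hr ξ h hne
      rw [← RingHom.mem_ker, hker]
      exact hmem
  have hreg : ∀ y : Z.presheaf.stalk w,
      (Z.presheaf.germ (ι ⁻¹ᵁ VV X e) w hwV).hom ((ι.app (VV X e)).hom (tt X e)) * y = 0 →
      y = 0 := by
    intro y hy
    by_contra hy0
    haveI : IsNoetherianRing (Z.presheaf.stalk w) := inferInstance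
    obtain ⟨Q, hQ, hle⟩ := exists_le_isAssociatedPrime_of_isNoetherianRing
      (R := Z.presheaf.stalk w) (M := Z.presheaf.stalk w) y hy0
    have hmemQ : (Z.presheaf.germ (ι ⁻¹ᵁ VV X e) w hwV).hom ((ι.app (VV X e)).hom (tt X e)) ∈
        Q := by
      apply hle
      rw [Submodule.mem_colon_singleton]
      exact (Submodule.mem_bot _).mpr hy
    have hQm := hmax Q hQ.isPrime hmemQ
    rw [hQm] at hQ
    rcases hemb w hQ with h1 | h1
    · apply h1
      rw [hw]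
      exact mem_union_range X e _ ⟨x, rfl⟩
    · omega
  have hLF := local_formula (Y := Z) (fun z => δP (ι z)) hδZ k hZ w hδw _ hreg hr
  rw [hLF]
  -- the total function
  let G : Z → ℤ := fun ζ => if hζ : δP (ι ζ) = k + 1 then
    ((Module.length (Z.presheaf.stalk ζ) (Z.presheaf.stalk ζ)).toNat : ℤ) *
      Cyc.divFun δP (ι ζ) (gg X (ι ζ) e (mem_VV_of_top X δP k Z ι hZ0 ζ hζ e)) (ι w) else 0
  have hG1 : ∀ ζ : {ζ : Z // δP (ι ζ) = k + 1},
      ((Module.length (Z.presheaf.stalk ζ.1) (Z.presheaf.stalk ζ.1)).toNat : ℤ) *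
        Cyc.divFun δP (ι ζ.1) (gg X (ι ζ.1) e (mem_VV_of_top X δP k Z ι hZ0 ζ.1 ζ.2 e)) (ι w) =
      G ζ.1 := by
    intro ζ
    show _ = dite _ _ _
    rw [dif_pos ζ.2]
  have hG2 : ∀ t : {ξ : Z // ξ ⤳ w ∧ ξ ≠ w},
      ((Module.length (Z.presheaf.stalk t.1) (Z.presheaf.stalk t.1)).toNat : ℤ) *
        Cyc.ordAt w t.1 t.2.1 (Cyc.specMap w t.1 t.2.1
          ((Z.presheaf.germ (ι ⁻¹ᵁ VV X e) w hwV).hom ((ι.app (VV X e)).hom (tt X e)))) =
      G t.1 := by
    intro t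
    have hξtop := htop t.1 t.2.1 t.2.2
    show _ = dite _ _ _
    rw [dif_pos hξtop]
    congr 1
    have hsp' : ι t.1 ⤳ ι w := t.2.1.map ι.continuous
    unfold Cyc.divFun
    rw [dif_pos ⟨hsp', by rw [hδw, hξtop]⟩]
    rw [← residueFieldMap_gg X Z ι e w t.1 t.2.1 hwV
      (mem_VV_of_top X δP k Z ι hZ0 t.1 hξtop e)]
    exact ordAt_transport ι w t.1 t.2.1 hsp' (ι.stalkMap_surjective w)
      (bij_of_closedImmersion ι t.1) _
  have hGsupp1 : ∀ ζ : Z, ¬ (δP (ι ζ) = k + 1) → G ζ = 0 := by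
    intro ζ hζ
    show dite _ _ _ = 0
    rw [dif_neg hζ]
  have hGsupp2 : ∀ ζ : Z, ¬ (ζ ⤳ w ∧ ζ ≠ w) → G ζ = 0 := by
    intro ζ hζ
    by_cases hζtop : δP (ι ζ) = k + 1
    · show dite _ _ _ = 0
      rw [dif_pos hζtop]
      by_contra hne
      apply hζ
      have hne' : Cyc.divFun δP (ι ζ) (gg X (ι ζ) e
          (mem_VV_of_top X δP k Z ι hZ0 ζ hζtop e)) (ι w) ≠ 0 := fun h0 => hne (by rw [h0, mul_zero])
      have hsp := divFun_ne_zero_specializes δP _ _ _ hne'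
      refine ⟨ι.isClosedEmbedding.isInducing.specializes_iff.mp hsp, ?_⟩
      rintro rfl
      omega
    · exact hGsupp1 ζ hζtop
  rw [finsum_congr hG2, finsum_congr hG1,
    finsum_subtype_eq_finsum_cond (f := G) (fun ξ => ξ ⤳ w ∧ ξ ≠ w),
    finsum_subtype_eq_finsum_cond (f := G) (fun ζ => δP (ι ζ) = k + 1)]
  have e1 : ∀ ξ : Z, (∑ᶠ (_ : ξ ⤳ w ∧ ξ ≠ w), G ξ) = G ξ := by
    intro ξ
    classical
    rw [finsum_eq_if]
    split_ifs with hc
    · rfl
    · exact (hGsupp2 ξ hc).symm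
  have e2 : ∀ ζ : Z, (∑ᶠ (_ : δP (ι ζ) = k + 1), G ζ) = G ζ := by
    intro ζ
    rw [finsum_eq_if]
    split_ifs with hc
    · rfl
    · exact (hGsupp1 ζ hc).symm
  rw [finsum_congr e1, finsum_congr e2]

/-- the cycle of the fibre of a closed subscheme over a section as a weighted sum of orders
of the coordinate over the top dimensional points -/
theorem subschemeFun_eq_finsum (hX : Cyc.IsSetup X δ) (hP : Cyc.DeltaCompat (piX X) δP δ)
    (hZ : ∀ z : Z, δP (ι z) ≤ k + 1)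
    (hZ0 : ∀ z : Z, ι z ∈ Set.range ⇑(P1.sect X 0) ∪ Set.range ⇑(P1.sect X 1) → δP (ι z) ≤ k)
    (hemb : ∀ z : Z, IsAssociatedPrime (IsLocalRing.maximalIdeal (Z.presheaf.stalk z))
      (Z.presheaf.stalk z) → ι z ∉ Set.range ⇑(P1.sect X 0) ∪ Set.range ⇑(P1.sect X 1) ∨
        δP (ι z) < k)
    (e : Fin (1 + 1)) (x : X) :
    Cyc.subschemeFun δ k (pullback.snd ι (P1.sect X e)) x =
      ∑ᶠ ζ : {ζ : Z // δP (ι ζ) = k + 1},
        ((Module.length (Z.presheaf.stalk ζ.1) (Z.presheaf.stalk ζ.1)).toNat : ℤ) *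
          Cyc.divFun δP (ι ζ.1) (gg X (ι ζ.1) e (mem_VV_of_top X δP k Z ι hZ0 ζ.1 ζ.2 e))
            (P1.sect X e x) := by
  by_cases hk : δ x = k
  swap
  · unfold Cyc.subschemeFun
    rw [if_neg hk]
    symm
    apply finsum_eq_zero_of_forall_eq_zero
    intro ζ
    have h0 : Cyc.divFun δP (ι ζ.1) (gg X (ι ζ.1) e (mem_VV_of_top X δP k Z ι hZ0 ζ.1 ζ.2 e))
        (P1.sect X e x) = 0 := by
      unfold Cyc.divFun
      rw [dif_neg]
      rintro ⟨-, hd⟩
      rw [deltaP_sect X δ δP hP e x, ζ.2] at hd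
      exact hk (by omega)
    rw [h0, mul_zero]
  by_cases hr : P1.sect X e x ∈ Set.range ι
  swap
  · have hL : Cyc.subschemeFun δ k (pullback.snd ι (P1.sect X e)) x = 0 := by
      apply subschemeFun_eq_zero
      rintro ⟨z, hz⟩
      apply hr
      refine ⟨pullback.fst ι (P1.sect X e) z, ?_⟩
      rw [pt_comm ι (P1.sect X e) _ _ (IsPullback.of_hasPullback _ _) z, hz]
    rw [hL]
    symm
    apply finsum_eq_zero_of_forall_eq_zero
    intro ζ
    rw [divFun_eq_zero_of_notMem_range ι δP (ι ζ.1) ⟨ζ.1, rfl⟩ _ _ hr, mul_zero]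
  obtain ⟨w, hw⟩ := hr
  obtain ⟨z₀, hz1, hz2⟩ := Scheme.Pullback.exists_preimage_pullback w x hw
  subst hz1
  have hset : {z : ↥(pullback ι (P1.sect X e)) | pullback.snd ι (P1.sect X e) z = x} = {z₀} := by
    ext z
    simp only [Set.mem_ofPred_eq, Set.mem_singleton_iff]
    constructor
    · intro hz
      exact (pullback.snd ι (P1.sect X e)).isClosedEmbedding.injective (hz.trans hz2.symm)
    · rintro rfl
      exact hz2
  have hzV : ι (pullback.fst ι (P1.sect X e) z₀) ∈ VV X e := by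
    rw [hw]
    exact sect_mem X e x
  unfold Cyc.subschemeFun
  rw [if_pos hk, hset, finsum_mem_singleton,
    length_stalk_pullback ι (P1.sect X e) (VV X e) (tt X e) (sect_mem X e)
      (ker_stalkMap_sect X e) z₀ hzV, ← hw]
  exact local_sum X δ δP k Z ι hX hP hZ hZ0 hemb e x hk _ hw hzV

theorem finite_top_points (hX : Cyc.IsSetup X δ) (hP : Cyc.DeltaCompat (piX X) δP δ)
    (hZ : ∀ z : Z, δP (ι z) ≤ k + 1) (U : X.Opens) (hU : IsAffineOpen U) :
    {ζ : Z | δP (ι ζ) = k + 1 ∧ piX X (ι ζ) ∈ U}.Finite := by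
  have hPS : Cyc.IsSetup (PX X) δP := isSetup_of_locallyOfFiniteType (piX X) δ hX δP hP
  haveI := hPS.1
  haveI : IsLocallyNoetherian Z := (isSetup_closedImmersion ι δP hPS).1
  have hδZ : Cyc.IsDimFun Z (fun z => δP (ι z)) := isDimFun_closedImmersion ι δP hPS.2.2
  have hcomp : IsCompact ((ι ≫ piX X) ⁻¹' (U : Set X)) :=
    QuasiCompact.isCompact_preimage (f := ι ≫ piX X) _ U.isOpen hU.isCompact
  choose V hV hzV using fun z : Z => exists_affine z
  obtain ⟨t, -, ht⟩ := hcomp.elim_nhds_subcover (fun z => (V z : Set Z))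
    (fun z _ => (V z).2.mem_nhds (hzV z))
  refine (t.finite_toSet.biUnion (fun z _ => finite_maximalPoints_inter (hV z))).subset ?_
  rintro ζ ⟨hζ, hζU⟩
  obtain ⟨z, hzt, hz⟩ := Set.mem_iUnion₂.mp (ht hζU)
  refine Set.mem_iUnion₂.mpr ⟨z, hzt, hz, fun ξ' hsp => ?_⟩
  by_contra hne
  have h1 := (hδZ ξ' ζ hsp hne).1
  have h2 := hZ ξ'
  have h1' : δP (ι ζ) < δP (ι ξ') := h1
  omega

/-- the fibres over zero and infinity of a closed subscheme of the projective line without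
associated points of top dimension on the sections are rationally equivalent -/
theorem main_ZSub (hX : Cyc.IsSetup X δ) (hP : Cyc.DeltaCompat (piX X) δP δ)
    (hZ : ∀ z : Z, δP (ι z) ≤ k + 1)
    (hZ0 : ∀ z : Z, ι z ∈ Set.range ⇑(P1.sect X 0) ∪ Set.range ⇑(P1.sect X 1) → δP (ι z) ≤ k)
    (hemb : ∀ z : Z, IsAssociatedPrime (IsLocalRing.maximalIdeal (Z.presheaf.stalk z))
      (Z.presheaf.stalk z) → ι z ∉ Set.range ⇑(P1.sect X 0) ∪ Set.range ⇑(P1.sect X 1) ∨
        δP (ι z) < k)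
    (α β : AlgebraicCycle X ℤ)
    (hα : ⇑α = Cyc.subschemeFun δ k (pullback.snd ι (P1.sect X 0)))
    (hβ : ⇑β = Cyc.subschemeFun δ k (pullback.snd ι (P1.sect X 1))) : Cyc.RatEquiv δ k α β := by
  have hlf : ∀ x : X, ∃ U : Set X, IsOpen U ∧ x ∈ U ∧
      {i : {ζ : Z // δP (ι ζ) = k + 1} | (closure {piX X (ι i.1)} ∩ U).Nonempty}.Finite := by
    intro x
    obtain ⟨U, hU, hxU⟩ := exists_affine x
    refine ⟨U, U.isOpen, hxU, ?_⟩
    refine ((finite_top_points X δ δP k Z ι hX hP hZ U hU).preimage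
      (Subtype.val_injective.injOn)).subset ?_
    rintro i ⟨y, hy1, hy2⟩
    have hsp : piX X (ι i.1) ⤳ y := specializes_iff_mem_closure.mpr hy1
    exact ⟨i.2, hsp.mem_open U.isOpen hy2⟩
  refine core_ratEquiv X δ δP hX hP k (I := {ζ : Z // δP (ι ζ) = k + 1}) (fun ζ => ι ζ.1)
    (fun ζ => (Module.length (Z.presheaf.stalk ζ.1) (Z.presheaf.stalk ζ.1)).toNat)
    (fun ζ => ζ.2) (fun ζ => mem_VV_of_top X δP k Z ι hZ0 ζ.1 ζ.2 0)
    (fun ζ => mem_VV_of_top X δP k Z ι hZ0 ζ.1 ζ.2 1) hlf α β ?_ ?_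
  · intro x
    rw [hα]
    exact subschemeFun_eq_finsum X δ δP k Z ι hX hP hZ hZ0 hemb 0 x
  · intro x
    rw [hβ]
    exact subschemeFun_eq_finsum X δ δP k Z ι hX hP hZ hZ0 hemb 1 x

end ZSub

end Groth.Agent.Helper7.P1Rat
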