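import Mathlib
import Groth.Prelude.Def_Cyc
import Groth.Prelude.Def_P1
import Groth.Prelude.Def_Coh
import Groth.Agent.Lib.Helper7.P1Rat.ZSub
import Groth.Agent.Lib.Helper7.KL.GysinMod
import Groth.Agent.Lib.Helper7.KL.ModStalk
import Groth.Agent.Lib.Helper7.QuasiFlat.BaseChange
import Groth.Agent.Lib.Helper7.CohStalk.FiniteAss

set_option linter.style.haveILetI false
set_option linter.unusedVariables false
set_option linter.unusedSectionVars false
set_option autoImplicit false
set_option backward.isDefEq.respectTransparency.types false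
set_option synthInstance.maxHeartbeats 400000
set_option maxHeartbeats 1600000

namespace Groth.Agent.Helper7.P1Rat

open CategoryTheory CategoryTheory.Limits AlgebraicGeometry TopologicalSpace Opposite IsLocalRing
open Groth.Agent.Helper7.DivFin Groth.Agent.Helper7.FinDeg Groth.Agent.Helper7.FinPush
open Groth.Agent.Helper7.KL Groth.Agent.Helper7.PDeg Groth.Agent.Helper7.GFib
open Groth.Agent.Helper7.PushRat Groth.Agent.Lead.SecOrd Groth.Agent.Helper7.Spz

universe u

/-! helper7: Fibres over zero and infinity of a coherent module on the projective line: top dimensional support points are weakly associated points (local finiteness), local length formula for the pulled back stalks, rational equivalence (helper7 library) -/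

section Gen

/-- a point of the support of a coherent module without proper generization in the support is
a weakly associated point -/
theorem isWeakAssPoint_of_maximal {Y : Scheme.{u}} (F : Y.Modules) (hF : Coh.IsCoh F) (ζ : Y)
    (hN : Nontrivial (F.presheaf.stalk ζ))
    (hmax : ∀ (ξ : Y), ξ ⤳ ζ → Nontrivial (F.presheaf.stalk ξ) → ξ = ζ) :
    Curv2.IsWeakAssPoint F ζ := by
  haveI : F.IsQuasicoherent := hF.1
  haveI hfinM : Module.Finite (Y.presheaf.stalk ζ) (F.presheaf.stalk ζ) :=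
    Groth.Agent.Helper7.FinType.stalk_finite_of_isCoh F hF ζ
  obtain ⟨m, hm⟩ := exists_ne (0 : F.presheaf.stalk ζ)
  refine ⟨m, ?_⟩
  have hne : LinearMap.ker (LinearMap.toSpanSingleton (Y.presheaf.stalk ζ)
      (F.presheaf.stalk ζ) m) ≠ ⊤ := by
    intro htop
    have h1 : (1 : Y.presheaf.stalk ζ) ∈ LinearMap.ker (LinearMap.toSpanSingleton
        (Y.presheaf.stalk ζ) (F.presheaf.stalk ζ) m) := by
      rw [htop]
      trivial
    rw [LinearMap.mem_ker, LinearMap.toSpanSingleton_apply, one_smul] at h1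
    exact hm h1
  rw [Ideal.radical_eq_sInf]
  apply le_antisymm
  · exact sInf_le ⟨IsLocalRing.le_maximalIdeal hne, inferInstance⟩
  · apply le_sInf
    rintro J ⟨hIJ, hJ⟩
    haveI := hJ
    obtain ⟨ξ, h, hker⟩ := exists_point_of_prime ζ J
    have hNξ : Nontrivial (F.presheaf.stalk ξ) := by
      rw [nontrivial_stalk_iff F ζ ξ h, hker]
      refine le_trans ?_ hIJ
      intro r hr
      rw [LinearMap.mem_ker, LinearMap.toSpanSingleton_apply]
      exact Module.mem_annihilator.mp hr m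
    have hξ := hmax ξ h hNξ
    rw [← hker]
    exact ((ker_specMap_eq_max_iff ζ ξ h).2 hξ).ge

end Gen

section CohFib

variable (X : Scheme.{u}) (δ : X → ℤ) (δP : ↥(PX X) → ℤ) (k : ℤ) (F : (PX X).Modules)

theorem gg_ne_zero (ξ : ↥(PX X)) (h0 : ξ ∈ VV X 0) (h1 : ξ ∈ VV X 1) (e : Fin (1 + 1))
    (he : ξ ∈ VV X e) : gg X ξ e he ≠ 0 := by
  have hmul := gg_mul X ξ h0 h1
  fin_cases e
  · exact left_ne_zero_of_mul_eq_one hmul
  · exact right_ne_zero_of_mul_eq_one hmul

/-- the points of top dimension of the support of the module lie on no section -/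
theorem mem_VV_of_top_module (hP : Cyc.DeltaCompat (piX X) δP δ) (hF : Coh.IsCoh F)
    (hsec : ∀ (e : Fin (1 + 1)) (x : X), Nontrivial
      (((Scheme.Modules.pullback (P1.sect X e)).obj F).presheaf.stalk x) → δ x ≤ k)
    (ζ : ↥(PX X)) (hζ : δP ζ = k + 1) (hN : Nontrivial (F.presheaf.stalk ζ))
    (e : Fin (1 + 1)) : ζ ∈ VV X e := by
  have h := mem_VV_of_notMem_range X (oth e) ζ (fun hr => by
    obtain ⟨x, rfl⟩ := hr
    have hN' := Groth.Agent.Helper7.QuasiFlat.nontrivial_stalk_pullback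
      (P1.sect X (oth e)) F hF x hN
    have hd := deltaP_sect X δ δP hP (oth e) x
    have := hsec (oth e) x hN'
    omega)
  rw [oth_oth] at h
  exact h

theorem finite_top_points_module (hX : Cyc.IsSetup X δ) (hP : Cyc.DeltaCompat (piX X) δP δ)
    (hF : Coh.IsCoh F)
    (hsupp : ∀ p : ↥(PX X), Nontrivial (F.presheaf.stalk p) → δP p ≤ k + 1)
    (U : X.Opens) (hU : IsAffineOpen U) :
    {ζ : ↥(PX X) | (δP ζ = k + 1 ∧ Nontrivial (F.presheaf.stalk ζ)) ∧ piX X ζ ∈ U}.Finite := by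
  have hPS : Cyc.IsSetup (PX X) δP := isSetup_of_locallyOfFiniteType (piX X) δ hX δP hP
  haveI := hPS.1
  have hcomp : IsCompact (((piX X) ⁻¹ᵁ U : (PX X).Opens) : Set ↥(PX X)) :=
    QuasiCompact.isCompact_preimage (f := piX X) _ U.isOpen hU.isCompact
  refine (Groth.Agent.Helper7.FinType.finite_isWeakAssPoint_of_isCompact F hF
    ((piX X) ⁻¹ᵁ U) hcomp).subset ?_
  rintro ζ ⟨⟨hζ, hN⟩, hζU⟩
  refine ⟨hζU, isWeakAssPoint_of_maximal F hF ζ hN (fun ξ h hNξ => ?_)⟩
  by_contra hne
  have h1 := (hPS.2.2 ξ ζ h hne).1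
  have h2 := hsupp ξ hNξ
  have h1' : δP ζ < δP ξ := h1
  omega

/-- the length of the stalk of the module modulo the coordinate at a point of a section, as a
weighted sum of orders of the coordinate over the top dimensional points of the support -/
theorem local_sum_module (hX : Cyc.IsSetup X δ) (hP : Cyc.DeltaCompat (piX X) δP δ)
    (hF : Coh.IsCoh F)
    (hsupp : ∀ p : ↥(PX X), Nontrivial (F.presheaf.stalk p) → δP p ≤ k + 1)
    (hsec : ∀ (e : Fin (1 + 1)) (x : X), Nontrivial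
      (((Scheme.Modules.pullback (P1.sect X e)).obj F).presheaf.stalk x) → δ x ≤ k)
    (hemb : ∀ p : ↥(PX X), IsAssociatedPrime
      (IsLocalRing.maximalIdeal ((PX X).presheaf.stalk p)) (F.presheaf.stalk p) →
      p ∉ Set.range ⇑(P1.sect X 0) ∪ Set.range ⇑(P1.sect X 1) ∨ δP p < k)
    (e : Fin (1 + 1)) (p : ↥(PX X)) (hpV : p ∈ VV X e)
    (hpr : p ∈ Set.range ⇑(P1.sect X e)) (hδp : δP p = k) :
    ((Module.length ((PX X).presheaf.stalk p)
      (F.presheaf.stalk p ⧸ LinearMap.range (mu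
        (((PX X).presheaf.germ (VV X e) p hpV).hom (tt X e))
        (F.presheaf.stalk p)))).toNat : ℤ) =
      ∑ᶠ ζ : {ζ : ↥(PX X) // δP ζ = k + 1 ∧ Nontrivial (F.presheaf.stalk ζ)},
        ((Module.length ((PX X).presheaf.stalk ζ.1) (F.presheaf.stalk ζ.1)).toNat : ℤ) *
          Cyc.divFun δP ζ.1 (gg X ζ.1 e
            (mem_VV_of_top_module X δ δP k F hP hF hsec ζ.1 ζ.2.1 ζ.2.2 e)) p := by
  have hPS : Cyc.IsSetup (PX X) δP := isSetup_of_locallyOfFiniteType (piX X) δ hX δP hP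
  haveI := hPS.1
  haveI : F.IsQuasicoherent := hF.1
  haveI hfinM : Module.Finite ((PX X).presheaf.stalk p) (F.presheaf.stalk p) :=
    Groth.Agent.Helper7.FinType.stalk_finite_of_isCoh F hF p
  obtain ⟨r, hr⟩ : ∃ r : (PX X).presheaf.stalk p,
      r = ((PX X).presheaf.germ (VV X e) p hpV).hom (tt X e) := ⟨_, rfl⟩
  rw [← hr]
  have htop : ∀ (ξ : ↥(PX X)), ξ ⤳ p → ξ ≠ p → Nontrivial (F.presheaf.stalk ξ) →
      δP ξ = k + 1 := by
    intro ξ h hne hN
    have h1 := (hPS.2.2 ξ p h hne).1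
    have h2 := hsupp ξ hN
    have h1' : δP p < δP ξ := h1
    omega
  have hspec : ∀ (ξ : ↥(PX X)) (h : ξ ⤳ p) (hξV : ξ ∈ VV X e),
      Cyc.specMap p ξ h r = gg X ξ e hξV := by
    intro ξ h hξV
    rw [hr, specMap_germ p ξ h (VV X e) hpV]
    rfl
  have hrne : ∀ (ξ : ↥(PX X)) (h : ξ ⤳ p), ξ ≠ p → Nontrivial (F.presheaf.stalk ξ) →
      Cyc.specMap p ξ h r ≠ 0 := by
    intro ξ h hne hN
    have hξtop := htop ξ h hne hN
    have hm0 := mem_VV_of_top_module X δ δP k F hP hF hsec ξ hξtop hN 0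
    have hm1 := mem_VV_of_top_module X δ δP k F hP hF hsec ξ hξtop hN 1
    have hme := mem_VV_of_top_module X δ δP k F hP hF hsec ξ hξtop hN e
    rw [hspec ξ h hme]
    exact gg_ne_zero X ξ hm0 hm1 e hme
  have hreg : Function.Injective (fun m : F.presheaf.stalk p => r • m) := by
    intro y1 y2 h12
    by_contra hne12
    have hy0 : y1 - y2 ≠ 0 := sub_ne_zero.mpr hne12
    have hy : r • (y1 - y2) = 0 := by
      rw [smul_sub]
      exact sub_eq_zero.mpr h12
    haveI : IsNoetherianRing ((PX X).presheaf.stalk p) := inferInstance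
    obtain ⟨Q, hQ, hle⟩ := exists_le_isAssociatedPrime_of_isNoetherianRing
      (R := (PX X).presheaf.stalk p) (M := F.presheaf.stalk p) (y1 - y2) hy0
    have hmemQ : r ∈ Q := by
      apply hle
      rw [Submodule.mem_colon_singleton]
      exact (Submodule.mem_bot _).mpr hy
    haveI := hQ.isPrime
    obtain ⟨ξ, h, hker⟩ := exists_point_of_prime p Q
    have hQm : Q = maximalIdeal ((PX X).presheaf.stalk p) := by
      by_cases hne : ξ = p
      · rw [← hker]
        exact (ker_specMap_eq_max_iff p ξ h).2 hne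
      · exfalso
        have hNξ : Nontrivial (F.presheaf.stalk ξ) := by
          rw [nontrivial_stalk_iff F p ξ h, hker]
          exact le_of_eq_of_le Submodule.annihilator_top.symm hQ.annihilator_le
        apply hrne ξ h hne hNξ
        rw [← RingHom.mem_ker, hker]
        exact hmemQ
    rw [hQm] at hQ
    rcases hemb p hQ with h1 | h1
    · exact h1 (mem_union_range X e _ hpr)
    · omega
  obtain ⟨-, hLF⟩ := local_formula_module δP hPS.2.2 k F hF hsupp p hδp r hreg
  rw [hLF]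
  -- the total function
  classical
  let G : ↥(PX X) → ℤ := fun ζ =>
    if hζ : δP ζ = k + 1 ∧ Nontrivial (F.presheaf.stalk ζ) then
      ((Module.length ((PX X).presheaf.stalk ζ) (F.presheaf.stalk ζ)).toNat : ℤ) *
        Cyc.divFun δP ζ (gg X ζ e
          (mem_VV_of_top_module X δ δP k F hP hF hsec ζ hζ.1 hζ.2 e)) p else 0
  have hG1 : ∀ ζ : {ζ : ↥(PX X) // δP ζ = k + 1 ∧ Nontrivial (F.presheaf.stalk ζ)},
      ((Module.length ((PX X).presheaf.stalk ζ.1) (F.presheaf.stalk ζ.1)).toNat : ℤ) *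
        Cyc.divFun δP ζ.1 (gg X ζ.1 e
          (mem_VV_of_top_module X δ δP k F hP hF hsec ζ.1 ζ.2.1 ζ.2.2 e)) p = G ζ.1 := by
    intro ζ
    show _ = dite _ _ _
    rw [dif_pos ζ.2]
  have hG2 : ∀ t : {ξ : ↥(PX X) // ξ ⤳ p ∧ ξ ≠ p},
      ((Module.length ((PX X).presheaf.stalk t.1) (F.presheaf.stalk t.1)).toNat : ℤ) *
        Cyc.ordAt p t.1 t.2.1 (Cyc.specMap p t.1 t.2.1 r) = G t.1 := by
    intro t
    by_cases hN : Nontrivial (F.presheaf.stalk t.1)
    · have hξtop := htop t.1 t.2.1 t.2.2 hN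
      show _ = dite _ _ _
      rw [dif_pos ⟨hξtop, hN⟩]
      congr 1
      unfold Cyc.divFun
      rw [dif_pos ⟨t.2.1, by rw [hδp, hξtop]⟩,
        hspec t.1 t.2.1 (mem_VV_of_top_module X δ δP k F hP hF hsec t.1 hξtop hN e)]
    · show _ = dite _ _ _
      rw [dif_neg (fun h => hN h.2)]
      haveI hsub : Subsingleton (F.presheaf.stalk t.1) := not_nontrivial_iff_subsingleton.mp hN
      rw [Module.length_eq_zero]
      simp
  have hGsupp1 : ∀ ζ : ↥(PX X), ¬ (δP ζ = k + 1 ∧ Nontrivial (F.presheaf.stalk ζ)) →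
      G ζ = 0 := by
    intro ζ hζ
    show dite _ _ _ = 0
    rw [dif_neg hζ]
  have hGsupp2 : ∀ ζ : ↥(PX X), ¬ (ζ ⤳ p ∧ ζ ≠ p) → G ζ = 0 := by
    intro ζ hζ
    by_cases hζtop : δP ζ = k + 1 ∧ Nontrivial (F.presheaf.stalk ζ)
    · show dite _ _ _ = 0
      rw [dif_pos hζtop]
      by_contra hne
      apply hζ
      have hne' : Cyc.divFun δP ζ (gg X ζ e
          (mem_VV_of_top_module X δ δP k F hP hF hsec ζ hζtop.1 hζtop.2 e)) p ≠ 0 :=
        fun h0 => hne (by rw [h0, mul_zero])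
      have hsp := divFun_ne_zero_specializes δP _ _ _ hne'
      refine ⟨hsp, ?_⟩
      rintro rfl
      have := hζtop.1
      omega
    · exact hGsupp1 ζ hζtop
  rw [finsum_congr hG2, finsum_congr hG1,
    finsum_subtype_eq_finsum_cond (f := G) (fun ξ => ξ ⤳ p ∧ ξ ≠ p),
    finsum_subtype_eq_finsum_cond (f := G)
      (fun ζ => δP ζ = k + 1 ∧ Nontrivial (F.presheaf.stalk ζ))]
  have e1 : ∀ ξ : ↥(PX X), (∑ᶠ (_ : ξ ⤳ p ∧ ξ ≠ p), G ξ) = G ξ := by
    intro ξ
    classical
    rw [finsum_eq_if]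
    split_ifs with hc
    · rfl
    · exact (hGsupp2 ξ hc).symm
  have e2 : ∀ ζ : ↥(PX X),
      (∑ᶠ (_ : δP ζ = k + 1 ∧ Nontrivial (F.presheaf.stalk ζ)), G ζ) = G ζ := by
    intro ζ
    classical
    rw [finsum_eq_if]
    split_ifs with hc
    · rfl
    · exact (hGsupp1 ζ hc).symm
  rw [finsum_congr e1, finsum_congr e2]

/-- the cycle of the pullback of a coherent module to a section as a weighted sum of orders
of the coordinate over the top dimensional points of the support -/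
theorem sheafFun_eq_finsum (hX : Cyc.IsSetup X δ) (hP : Cyc.DeltaCompat (piX X) δP δ)
    (hF : Coh.IsCoh F)
    (hsupp : ∀ p : ↥(PX X), Nontrivial (F.presheaf.stalk p) → δP p ≤ k + 1)
    (hsec : ∀ (e : Fin (1 + 1)) (x : X), Nontrivial
      (((Scheme.Modules.pullback (P1.sect X e)).obj F).presheaf.stalk x) → δ x ≤ k)
    (hemb : ∀ p : ↥(PX X), IsAssociatedPrime
      (IsLocalRing.maximalIdeal ((PX X).presheaf.stalk p)) (F.presheaf.stalk p) →
      p ∉ Set.range ⇑(P1.sect X 0) ∪ Set.range ⇑(P1.sect X 1) ∨ δP p < k)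
    (e : Fin (1 + 1)) (x : X) :
    Cyc.sheafFun δ k ((Scheme.Modules.pullback (P1.sect X e)).obj F) x =
      ∑ᶠ ζ : {ζ : ↥(PX X) // δP ζ = k + 1 ∧ Nontrivial (F.presheaf.stalk ζ)},
        ((Module.length ((PX X).presheaf.stalk ζ.1) (F.presheaf.stalk ζ.1)).toNat : ℤ) *
          Cyc.divFun δP ζ.1 (gg X ζ.1 e
            (mem_VV_of_top_module X δ δP k F hP hF hsec ζ.1 ζ.2.1 ζ.2.2 e))
            (P1.sect X e x) := by
  by_cases hk : δ x = k
  swap
  · unfold Cyc.sheafFun
    rw [if_neg hk]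
    symm
    apply finsum_eq_zero_of_forall_eq_zero
    intro ζ
    have h0 : Cyc.divFun δP ζ.1 (gg X ζ.1 e
        (mem_VV_of_top_module X δ δP k F hP hF hsec ζ.1 ζ.2.1 ζ.2.2 e)) (P1.sect X e x) = 0 := by
      unfold Cyc.divFun
      rw [dif_neg]
      rintro ⟨-, hd⟩
      rw [deltaP_sect X δ δP hP e x, ζ.2.1] at hd
      exact hk (by omega)
    rw [h0, mul_zero]
  unfold Cyc.sheafFun
  rw [if_pos hk, length_stalk_pullback_surj (P1.sect X e) F x
    (((PX X).presheaf.germ (VV X e) (P1.sect X e x) (sect_mem X e x)).hom (tt X e))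
    ((P1.sect X e).stalkMap_surjective x) (ker_stalkMap_sect X e x)]
  exact local_sum_module X δ δP k F hX hP hF hsupp hsec hemb e (P1.sect X e x)
    (sect_mem X e x) ⟨x, rfl⟩ (by rw [deltaP_sect X δ δP hP e x, hk])

/-- the fibres over zero and infinity of a coherent module on the projective line without
associated points of top dimension on the sections are rationally equivalent -/
theorem main_CohFib (hX : Cyc.IsSetup X δ) (hP : Cyc.DeltaCompat (piX X) δP δ)
    (hF : Coh.IsCoh F)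
    (hsupp : ∀ p : ↥(PX X), Nontrivial (F.presheaf.stalk p) → δP p ≤ k + 1)
    (h0 : ∀ x : X, Nontrivial
      (((Scheme.Modules.pullback (P1.sect X 0)).obj F).presheaf.stalk x) → δ x ≤ k)
    (h1 : ∀ x : X, Nontrivial
      (((Scheme.Modules.pullback (P1.sect X 1)).obj F).presheaf.stalk x) → δ x ≤ k)
    (hemb : ∀ p : ↥(PX X), IsAssociatedPrime
      (IsLocalRing.maximalIdeal ((PX X).presheaf.stalk p)) (F.presheaf.stalk p) →
      p ∉ Set.range ⇑(P1.sect X 0) ∪ Set.range ⇑(P1.sect X 1) ∨ δP p < k)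
    (α β : AlgebraicCycle X ℤ)
    (hα : ⇑α = Cyc.sheafFun δ k ((Scheme.Modules.pullback (P1.sect X 0)).obj F))
    (hβ : ⇑β = Cyc.sheafFun δ k ((Scheme.Modules.pullback (P1.sect X 1)).obj F)) :
    Cyc.RatEquiv δ k α β := by
  have hsec : ∀ (e : Fin (1 + 1)) (x : X), Nontrivial
      (((Scheme.Modules.pullback (P1.sect X e)).obj F).presheaf.stalk x) → δ x ≤ k := by
    intro e
    fin_cases e
    · exact h0
    · exact h1
  have hlf : ∀ x : X, ∃ U : Set X, IsOpen U ∧ x ∈ U ∧
      {i : {ζ : ↥(PX X) // δP ζ = k + 1 ∧ Nontrivial (F.presheaf.stalk ζ)} |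
        (closure {piX X i.1} ∩ U).Nonempty}.Finite := by
    intro x
    obtain ⟨U, hU, hxU⟩ := exists_affine x
    refine ⟨U, U.isOpen, hxU, ?_⟩
    refine ((finite_top_points_module X δ δP k F hX hP hF hsupp U hU).preimage
      (Subtype.val_injective.injOn)).subset ?_
    rintro i ⟨y, hy1, hy2⟩
    have hsp : piX X i.1 ⤳ y := specializes_iff_mem_closure.mpr hy1
    exact ⟨i.2, hsp.mem_open U.isOpen hy2⟩
  refine core_ratEquiv X δ δP hX hP k
    (I := {ζ : ↥(PX X) // δP ζ = k + 1 ∧ Nontrivial (F.presheaf.stalk ζ)}) (fun ζ => ζ.1)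
    (fun ζ => (Module.length ((PX X).presheaf.stalk ζ.1) (F.presheaf.stalk ζ.1)).toNat)
    (fun ζ => ζ.2.1) (fun ζ => mem_VV_of_top_module X δ δP k F hP hF hsec ζ.1 ζ.2.1 ζ.2.2 0)
    (fun ζ => mem_VV_of_top_module X δ δP k F hP hF hsec ζ.1 ζ.2.1 ζ.2.2 1) hlf α β ?_ ?_
  · intro x
    rw [hα]
    exact sheafFun_eq_finsum X δ δP k F hX hP hF hsupp hsec hemb 0 x
  · intro x
    rw [hβ]
    exact sheafFun_eq_finsum X δ δP k F hX hP hF hsupp hsec hemb 1 x

end CohFib

end Groth.Agent.Helper7.P1Rat
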